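import Cfsg.Agent.H3.ResidualSolvable.Limit
import Cfsg.Agent.H91.CentFocal.Fix
import Cfsg.Agent.H91.CentSys
import Cfsg.Agent.H89.Extend

/-!
A normal subsystem with small centralizer and the same automizer of its subgroup has `p`-power index.
-/

set_option autoImplicit false
set_option linter.unusedSectionVars false
set_option linter.style.haveILetI false

namespace Cfsg.Agent.H3.ResidualSolvable

open Cfsg Cfsg.FusionSystem Cfsg.Agent.FusionSys Cfsg.Agent.H91.CentFocal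
open Cfsg.FusionSystem (centralizerIn normalizerIn)

universe u

variable {Ω : Type u} [Group Ω] {p : ℕ} {S T : Subgroup Ω} {F : FusionSystem S} {E : FusionSystem T}

/-- The centralizer of `E` in `S` lies in `T`. -/
def SmallCentralizer (F : FusionSystem S) (E : FusionSystem T) : Prop :=
  ∀ Y : Subgroup Ω, Y ≤ centralizerIn S T →
    (∀ C : FusionSystem (centralizerIn S Y), F.IsCentralizerSystem Y C → E.IsSubsystemOf C) → Y ≤ T

/-- The condition passes to subsystems containing `E`. -/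
theorem SmallCentralizer.sub {U : Subgroup Ω} {G : FusionSystem U} (h : SmallCentralizer F E)
    (hGF : G.IsSubsystemOf F) (hUS : U ≤ S) : SmallCentralizer G E := by
  intro Y hY hext
  refine h Y (hY.trans (inf_le_inf_right _ hUS)) fun C hC P φ hφ => ?_
  have hYU : Y ≤ U := hY.trans inf_le_left
  have := hext _ (H91.isCentralizerSystem_centSys G hYU) P hφ
  rw [H91.isCentralizerSystem_centSys G hYU P] at this
  obtain ⟨h1, h2, g, hg, hge, hgY⟩ := (H91.centralizerHom_iff G).1 this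
  rw [hC P]
  exact (H91.centralizerHom_iff F).2 ⟨h1.trans (inf_le_inf_right _ hUS),
    fun x => inf_le_inf_right _ hUS (h2 x), g, isMap_of_sub hGF hg, hge, hgY⟩

variable [Finite S] [Fact p.Prime]

/-- `foc (C_F(T)) ≤ T`. -/
theorem focal_centralizer_le (hS : IsPGroup p S) (hF : F.IsSaturated p) (hE : E.IsNormalIn F p)
    (hCE : SmallCentralizer F E) {D : FusionSystem (centralizerIn S T)}
    (hD : F.IsCentralizerSystem T D) : D.focalSubgroup ≤ T := by
  have hTS : T ≤ S := hE.1.2.2.2.1.1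
  have hfocX : D.focalSubgroup ≤ centralizerIn S T := (Subgroup.closure_le _).2 (by
    rintro _ ⟨A, φ, a, hφ, rfl⟩
    exact mul_mem (inv_mem ((D.le_of_mem hφ).1 a.2)) ((D.le_of_mem hφ).2 a))
  refine hCE _ hfocX fun C hC P φ hφ => ?_
  have hTY : T ≤ centralizerIn S D.focalSubgroup := fun t ht => FusionSys.mem_centralizerIn.2
    ⟨hTS ht, fun y hy => ((FusionSys.mem_centralizerIn.1 (hfocX hy)).2 t ht).symm⟩
  obtain ⟨g, hg, hge, hgY⟩ := exists_fixing hS hF hE hD (isMap_of_mem hφ)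
  rw [hC P]
  exact (H91.centralizerHom_iff F).2 ⟨(E.le_of_mem hφ).1.trans hTY,
    fun x => hTY ((E.le_of_mem hφ).2 x), g, hg,
    fun x => (hge x x.2).trans (homFun_coe φ x), hgY⟩

theorem isFullyNormalized_top (E : FusionSystem T) [Finite T] : E.IsFullyNormalized T := by
  obtain ⟨Q, hc, hQ⟩ := exists_isFullyNormalized E (le_refl T)
  obtain ⟨f, hf⟩ := isConj_iff.1 hc
  rwa [Subgroup.eq_of_le_of_card_ge hQ.1 hf.card_eq.le] at hQ

/-- `S = T C_S(T)` once `Aut_F(T) = Aut_E(T)`. -/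
theorem exists_mem_centralizer (hS : IsPGroup p S) (hF : F.IsSaturated p) (hE : E.IsNormalIn F p)
    (hA : F.autGroup T ≤ E.autGroup T) {s : Ω} (hs : s ∈ S) :
    ∃ t ∈ T, ∃ c ∈ centralizerIn S T, s = t * c := by
  have hT : F.StronglyClosed T := hE.1.2.2.2.1
  haveI : Finite T := finite_of_le hT.1
  haveI := finite_autGroup E (le_refl T)
  obtain ⟨-, Sy, hSy⟩ := isFullyAutomized_of_isFullyNormalized (hS.to_le hT.1) hE.1.1
    (isFullyNormalized_top E)
  have hnorm : ∀ {x : Ω}, x ∈ S → x ∈ normalizerIn S T := fun {x} hx =>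
    ⟨hx, mem_normalizer_of_maps fun y hy => conj_mem_closed hT hx hy⟩
  have hSA : autInducedBy S T ≤ E.autGroup T := (autInducedBy_le_autGroup F hT.1).trans hA
  have hle : autInducedBy T T ≤ autInducedBy S T := fun α hα => by
    obtain ⟨t, ht, htn, rfl⟩ := mem_autInducedBy.1 hα
    exact mem_autInducedBy.2 ⟨t, hT.1 ht, htn, rfl⟩
  have heq : (autInducedBy S T).subgroupOf (E.autGroup T) = Sy := Sy.is_maximal'
    ((isPGroup_autInducedBy hS T).of_equiv (Subgroup.subgroupOfEquivOfLe hSA).symm)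
    (by rw [hSy]; exact Subgroup.comap_mono hle)
  have hmem : conjAut (hnorm hs).2 ∈ autInducedBy S T :=
    mem_autInducedBy.2 ⟨s, hs, (hnorm hs).2, rfl⟩
  have : (⟨_, hSA hmem⟩ : E.autGroup T) ∈ (Sy : Subgroup (E.autGroup T)) := by
    rw [← heq]; exact hmem
  rw [hSy] at this
  obtain ⟨t, ht, htn, he⟩ := mem_autInducedBy.1 this
  refine ⟨t, ht, t⁻¹ * s, FusionSys.mem_centralizerIn.2
    ⟨S.mul_mem (S.inv_mem (hT.1 ht)) hs, fun y hy => ?_⟩, by group⟩
  have h1 : s * y * s⁻¹ = t * y * t⁻¹ := by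
    have h := congrArg (fun α : MulAut T => autMap α y) he
    simp only [Subgroup.coe_subtype] at h
    rwa [autMap_conjAut _ hy, autMap_conjAut _ hy] at h
  calc y * (t⁻¹ * s) = t⁻¹ * (t * y * t⁻¹) * s := by group
    _ = t⁻¹ * (s * y * s⁻¹) * s := by rw [h1]
    _ = _ := by group

/-- Every map is trivial modulo `T`. -/
theorem map_mod (hS : IsPGroup p S) (hF : F.IsSaturated p) (hE : E.IsNormalIn F p)
    (hCE : SmallCentralizer F E) (hA : F.autGroup T ≤ E.autGroup T) {P : Subgroup Ω} {f : Ω → Ω}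
    (hf : IsMap F P f) {x : Ω} (hx : x ∈ P) : x⁻¹ * f x ∈ T := by
  have hT : F.StronglyClosed T := hE.1.2.2.2.1
  have hTS := hT.1
  haveI : Finite T := finite_of_le hTS
  have hD := H91.isCentralizerSystem_centSys F hTS
  set D := H91.centSys F hTS
  have hfoc := focal_centralizer_le hS hF hE hCE hD
  have hdec : ∀ {s : Ω}, s ∈ S → ∃ t ∈ T, ∃ c ∈ centralizerIn S T, s = t * c := fun hs =>
    exists_mem_centralizer hS hF hE hA hs
  have hXT : ∀ c ∈ centralizerIn S T, ∀ t ∈ T, t * c = c * t := fun c hc =>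
    (FusionSys.mem_centralizerIn.1 hc).2
  have hcT : ∀ {s t : Ω}, s ∈ S → t ∈ T → s⁻¹ * t * s ∈ T := fun {s t} hs ht => by
    simpa using conj_mem_closed hT (S.inv_mem hs) ht
  -- commutators
  have hcc : ∀ c ∈ centralizerIn S T, ∀ d ∈ centralizerIn S T, c⁻¹ * (d * c * d⁻¹) ∈ T :=
    fun c hc d hd => hfoc (Subgroup.subset_closure
      ⟨_, _, ⟨c, Subgroup.mem_zpowers c⟩, D.conj_mem (Subgroup.zpowers_le.2 hc) hd, rfl⟩)
  have hcomm : ∀ a ∈ S, ∀ b ∈ S, a * b * a⁻¹ * b⁻¹ ∈ T := by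
    intro a ha b hb
    obtain ⟨t, ht, c, hc, rfl⟩ := hdec ha
    obtain ⟨u, hu, d, hd, rfl⟩ := hdec hb
    have h1 := conj_mem_closed hT hd.1 (hcc d hd c hc)
    have e : t * c * (u * d) * (t * c)⁻¹ * (u * d)⁻¹ =
        t * (u * (d * (d⁻¹ * (c * d * c⁻¹)) * d⁻¹) * (d * t⁻¹ * d⁻¹) * u⁻¹) := by
      calc t * c * (u * d) * (t * c)⁻¹ * (u * d)⁻¹
          = t * ((c * u) * d * c⁻¹ * t⁻¹ * d⁻¹ * u⁻¹) := by group
        _ = t * ((u * c) * d * c⁻¹ * t⁻¹ * d⁻¹ * u⁻¹) := by rw [hXT c hc u hu]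
        _ = _ := by group
    rw [e]
    exact T.mul_mem ht (T.mul_mem (T.mul_mem (T.mul_mem hu h1)
      (conj_mem_closed hT hd.1 (T.inv_mem ht))) (T.inv_mem hu))
  obtain ⟨g, hg, hgf⟩ := H89.exists_extend_mod hS hF hT (H89.stronglyClosed_top F) hTS hcomm hf
  suffices hgx : x⁻¹ * g x ∈ T by
    have := T.mul_mem hgx (T.inv_mem (hgf x hx))
    rwa [show x⁻¹ * g x * ((f x)⁻¹ * g x)⁻¹ = x⁻¹ * f x by group] at this
  have hgS : IsMap F S g := hg.mono le_sup_right
  have hxS : x ∈ S := hf.le hx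
  obtain ⟨a, ha, hae⟩ := (isIso_of_mapsTo (hgS.mono hTS) fun y hy =>
    (stronglyClosed_iff.1 hT).2 T g le_rfl (hgS.mono hTS) y hy).exists_aut
  obtain ⟨β, hβ, hβa, hβc⟩ := hE.2 a (hA ha)
  have hXS : T ⊔ centralizerIn S T ≤ S := sup_le hTS centralizerIn_le
  have hSX : S ≤ T ⊔ centralizerIn S T := fun y hy => by
    obtain ⟨t, ht, c, hc, rfl⟩ := hdec hy
    exact Subgroup.mul_mem_sup ht hc
  have hβm : IsMap F (T ⊔ centralizerIn S T) (autMap β) := (mem_autGroup_iff hXS).1 hβ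
  have hβ'm : IsMap F (T ⊔ centralizerIn S T) (autMap β⁻¹) :=
    (mem_autGroup_iff hXS).1 (inv_mem hβ)
  have hβT : ∀ t ∈ T, autMap β t = g t := fun t ht => by
    rw [← hae t ht, autMap_apply _ (Subgroup.mem_sup_left ht), autMap_apply _ ht]
    exact hβa ⟨t, ht⟩
  -- `γ = g β⁻¹`
  set γ := g ∘ autMap β⁻¹ with hγdef
  have hγ : IsMap F (T ⊔ centralizerIn S T) γ :=
    hβ'm.comp (hgS.mono hXS) fun y hy => autMap_mem _ hy
  have hγβ : ∀ y ∈ T ⊔ centralizerIn S T, γ (autMap β y) = g y := fun y hy => by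
    show g (autMap β⁻¹ (autMap β y)) = g y
    rw [← autMap_mul β⁻¹ β hy, inv_mul_cancel, FusionSys.autMap_one hy]
  have hγT : ∀ t ∈ T, γ t = t := fun t ht => by
    obtain ⟨u, hu, rfl⟩ := (isIso_autMap (F := F) hTS ha).exists_preimage ht
    rw [hae u hu, ← hβT u hu, hγβ u (Subgroup.mem_sup_left hu), hβT u hu]
  obtain ⟨t, ht, c, hc, rfl⟩ := hdec hxS
  have hcX : c ∈ T ⊔ centralizerIn S T := Subgroup.mem_sup_right hc
  have hz : c⁻¹ * autMap β c ∈ T ⊓ Subgroup.centralizer (T : Set Ω) := by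
    rw [autMap_apply _ hcX]
    exact hβc ⟨c, hcX⟩ hc
  set w := autMap β c with hw
  have hwC : w ∈ centralizerIn S T := by
    rw [show w = c * (c⁻¹ * w) by group]
    exact mul_mem hc ⟨hTS hz.1, hz.2⟩
  have hwX : w ∈ T ⊔ centralizerIn S T := Subgroup.mem_sup_right hwC
  have hγw : γ w ∈ centralizerIn S T := FusionSys.mem_centralizerIn.2
    ⟨hγ.mem_S hwX, fun t ht => by
      rw [← hγT t ht, ← hγ.map_mul (Subgroup.mem_sup_left ht) hwX,
        ← hγ.map_mul hwX (Subgroup.mem_sup_left ht), hXT w hwC t ht]⟩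
  have hwD : w⁻¹ * γ w ∈ T := by
    obtain ⟨φ, hφ, hφe⟩ := hγ.mono (Subgroup.zpowers_le.2 hwX)
    refine hfoc (Subgroup.subset_closure ⟨_, φ, ⟨w, Subgroup.mem_zpowers w⟩, ?_, ?_⟩)
    · rw [hD]
      refine (H91.centralizerHom_iff F).2 ⟨Subgroup.zpowers_le.2 hwC, fun y => ?_, γ,
        hγ.mono (sup_le (Subgroup.zpowers_le.2 hwX) le_sup_left), fun y => (hφe y).symm, hγT⟩
      obtain ⟨k, hk⟩ := Subgroup.mem_zpowers_iff.1 y.2
      have hm : φ ⟨w, Subgroup.mem_zpowers w⟩ ∈ centralizerIn S T := by rw [hφe]; exact hγw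
      have hy : y = ⟨w, Subgroup.mem_zpowers w⟩ ^ k := Subtype.ext hk.symm
      rw [hy, map_zpow]
      exact zpow_mem hm k
    · rw [hφe]
  have hgc : g c = w * (w⁻¹ * γ w) := by rw [hw, hγβ c hcX]; group
  have hgt : g t ∈ T := (stronglyClosed_iff.1 hT).2 T g le_rfl (hgS.mono hTS) t ht
  have e : (t * c)⁻¹ * g (t * c) = (c⁻¹ * (t⁻¹ * g t) * c) * ((c⁻¹ * w) * (w⁻¹ * γ w)) := by
    rw [hgS.map_mul (hTS ht) hc.1, hgc]
    group
  rw [e]
  exact T.mul_mem (hcT hc.1 (T.mul_mem (T.inv_mem ht) hgt)) (T.mul_mem hz.1 hwD)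

/-- The subsystem has `p`-power index. -/
theorem hasPPowerIndexIn (hS : IsPGroup p S) (hF : F.IsSaturated p) (hE : E.IsNormalIn F p)
    (hCE : SmallCentralizer F E) (hA : F.autGroup T ≤ E.autGroup T) : E.HasPPowerIndexIn F p := by
  refine ⟨hE.1.2.2.1, (Subgroup.closure_le _).2 ?_, fun P hP => ?_⟩
  · rintro y ⟨P, α, x, hP, -, rfl⟩
    have := map_mod hS hF hE hCE hA ((mem_autGroup_iff hP).1 α.2) x.2
    rwa [autMap_coe] at this
  · refine (Subgroup.map_subtype_le _).trans fun α hα => ?_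
    have hPS : P ≤ S := hP.trans hE.1.2.2.2.1.1
    obtain ⟨a, ha, φ, hφ, he⟩ := frattini_map hE.1.2.2 hP ((mem_autGroup_iff hPS).1 hα)
    exact mem_autGroup_of_isMap ((hφ.comp ((mem_autGroup_iff le_rfl).1 (hA ha))
      fun y hy => hφ.mem_S hy).congr he)

end Cfsg.Agent.H3.ResidualSolvable
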