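import Cfsg.Agent.H3.ResidualSolvable.Invariant
import Cfsg.Agent.S5255

/-!
A normal subsystem over `T C_S(T)` with the automizer of `E` on `T` and the residual limits of `F`.
-/

set_option autoImplicit false
set_option linter.unusedSectionVars false
set_option linter.style.haveILetI false

namespace Cfsg.Agent.H3.ResidualSolvable

open Cfsg Cfsg.FusionSystem Cfsg.Agent.FusionSys Cfsg.Agent.H91.CentFocal
open Cfsg.FusionSystem (centralizerIn normalizerIn)

universe u

variable {Ω : Type u} [Group Ω] {p : ℕ}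

/-- A residual limit is a subsystem. -/
theorem limit_sub {V S : Subgroup Ω} {X : FusionSystem V} {F : FusionSystem S} {q : ℕ}
    (h : FusionSystem.IsResidualLimitOf X F q) : X.IsSubsystemOf F := by
  induction h with
  | stable F q _ _ => exact fun _ => Set.Subset.rfl
  | step F q D D' hD hD' _ ih => exact fun P => (ih P).trans ((hD'.2.1.1 P).trans (hD.2.1 P))

section Kernel

variable {A : Type*} [Group A] (B : Subgroup A) (P : ℕ → Prop)

/-- The subgroup generated by `B` and the elements with order satisfying `P`. -/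
def ker' : Subgroup A := Subgroup.closure {g | P (orderOf g) ∨ g ∈ B}

theorem ker'_map {f : A →* A} (hf : Function.Injective f) (hB : ∀ b ∈ B, f b ∈ B) {g : A}
    (hg : g ∈ ker' B P) : f g ∈ ker' B P := by
  have : ker' B P ≤ (ker' B P).comap f := (Subgroup.closure_le _).2 fun x hx => by
    refine Subgroup.subset_closure ?_
    rcases hx with h | h
    · exact Or.inl (by rwa [orderOf_injective f hf])
    · exact Or.inr (hB x h)
  exact this hg

theorem le_ker' : B ≤ ker' B P := fun _ hb => Subgroup.subset_closure (Or.inr hb)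

theorem index_pPart [Finite A] [Fact p.Prime] :
    ∃ m, (ker' B fun n => n.Coprime p).index = p ^ m := by
  haveI : (pResidual p A).Normal := Fusion.pResidual_normal
  obtain ⟨n, hn⟩ := IsPGroup.iff_card.1 (Fusion.isPGroup_quotient_pResidual (G := A) (p := p))
  have hle : pResidual p A ≤ ker' B fun n => n.Coprime p :=
    (Subgroup.closure_le _).2 fun g hg => Subgroup.subset_closure (Or.inl hg)
  have := Subgroup.index_dvd_of_le hle
  rw [Subgroup.index_eq_card (pResidual p A), hn] at this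
  obtain ⟨k, -, hk⟩ := (Nat.dvd_prime_pow (Fact.out : p.Prime)).1 this
  exact ⟨k, hk⟩

theorem index_primePart [Finite A] [Fact p.Prime] :
    (ker' B fun n => ∃ k, n = p ^ k).index.Coprime p := by
  obtain ⟨P⟩ : Nonempty (Sylow p A) := inferInstance
  have hle : (P : Subgroup A) ≤ ker' B fun n => ∃ k, n = p ^ k := fun g hg => by
    obtain ⟨k, hk⟩ := IsPGroup.iff_orderOf.1 P.2 ⟨g, hg⟩
    exact Subgroup.subset_closure (Or.inl ⟨k, by rw [← hk, Subgroup.orderOf_mk]⟩)
  exact (((Fact.out : p.Prime).coprime_iff_not_dvd.2 P.not_dvd_index).symm).coprime_dvd_left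
    (Subgroup.index_dvd_of_le hle)

theorem ker'_ne_top [Finite A] [Fact p.Prime] [B.Normal] [Nontrivial (A ⧸ B)]
    (h : IsPSolvable p (A ⧸ B)) :
    (ker' B fun n => n.Coprime p) ≠ ⊤ ∨ (ker' B fun n => ∃ k, n = p ^ k) ≠ ⊤ := by
  obtain ⟨N, hN, hNtop, hcase⟩ := exists_top_step h
  haveI := hN
  set K := N.comap (QuotientGroup.mk' B) with hK
  haveI : K.Normal := hN.comap _
  have hKtop : K ≠ ⊤ := fun h => hNtop (Subgroup.comap_injective (QuotientGroup.mk'_surjective B)
    (h.trans (Subgroup.comap_top _).symm))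
  have hBK : ∀ b ∈ B, b ∈ K := fun b hb => by
    show QuotientGroup.mk' B b ∈ N
    rw [QuotientGroup.mk'_apply, (QuotientGroup.eq_one_iff b).2 hb]
    exact one_mem _
  have hidx : K.index = N.index :=
    Subgroup.index_comap_of_surjective N (QuotientGroup.mk'_surjective B)
  have key : ∀ g : A, (orderOf g).Coprime K.index → g ∈ K := fun g hg => by
    have h1 : orderOf (QuotientGroup.mk' K g) ∣ K.index := orderOf_dvd_natCard _
    exact (QuotientGroup.eq_one_iff g).1 (orderOf_eq_one_iff.1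
      (Nat.eq_one_of_dvd_coprimes hg (orderOf_map_dvd (QuotientGroup.mk' K) g) h1))
  rcases hcase with ⟨m, hm⟩ | hm
  · refine Or.inl fun h => hKtop (top_le_iff.1 (h.ge.trans ((Subgroup.closure_le _).2 ?_)))
    rintro g (hg | hg)
    · exact key g (by rw [hidx, hm]; exact Nat.Coprime.pow_right m hg)
    · exact hBK g hg
  · refine Or.inr fun h => hKtop (top_le_iff.1 (h.ge.trans ((Subgroup.closure_le _).2 ?_)))
    rintro g (⟨k, hk⟩ | hg)
    · exact key g (by rw [hk, hidx]; exact (hm.symm).pow_left k)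
    · exact hBK g hg

end Kernel

variable [Fact p.Prime] {S T : Subgroup Ω} [Finite S] {F : FusionSystem S} {E : FusionSystem T}

/-- The invariant of the descent. -/
structure Good (p : ℕ) (F : FusionSystem S) (E : FusionSystem T) {U : Subgroup Ω}
    (G : FusionSystem U) : Prop where
  weak : G.IsWeaklyNormalIn F p
  normal : E.IsNormalIn G p
  le : T ⊔ centralizerIn S T ≤ U
  limit : ∀ {V : Subgroup Ω} (X : FusionSystem V), X.IsResidualLimitOf G p ↔ X.IsResidualLimitOf F p

theorem descend (hS : IsPGroup p S) (hE : E.IsNormalIn F p) (hsolv : SolvableOver F E p)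
    {U : Subgroup Ω} (G : FusionSystem U) (hG : Good p F E G) :
    ∃ G₀ : FusionSystem (T ⊔ centralizerIn S T), Good p F E G₀ ∧ G₀.autGroup T = E.autGroup T := by
  induction hn : Nat.card U + Nat.card (G.autGroup T) using Nat.strong_induction_on
    generalizing U G with
  | _ n ih =>
  have hF : F.IsSaturated p := hG.weak.2.1
  have hUS : U ≤ S := hG.weak.2.2.2.1.1
  haveI : Finite U := finite_of_le hUS
  have hUp : IsPGroup p U := hS.to_le hUS
  have hT : F.StronglyClosed T := hE.1.2.2.2.1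
  have hTS : T ≤ S := hT.1
  haveI : Finite T := finite_of_le hTS
  have hTU : T ≤ U := le_sup_left.trans hG.le
  have hEG := hG.normal
  have hGs := hG.weak.1
  haveI := finite_autGroup G hTU
  by_cases hA : G.autGroup T ≤ E.autGroup T
  · have hU : U = T ⊔ centralizerIn S T := le_antisymm (fun s hs => by
      obtain ⟨t, ht, c, hc, rfl⟩ := exists_mem_centralizer hUp hGs hEG hA hs
      exact Subgroup.mul_mem_sup ht ⟨hUS hc.1, hc.2⟩) hG.le
    subst hU
    exact ⟨G, hG, le_antisymm hA (H90.RL.autGroup_mono hEG.1.2.2.1 le_rfl hTU)⟩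
  set A := G.autGroup T with hAdef
  set B := (E.autGroup T).subgroupOf A with hBdef
  have hAF : A ≤ F.autGroup T := H90.RL.autGroup_mono hG.weak.2.2.1 hTU hTS
  obtain ⟨hBn, hq⟩ := hsolv.sub hTS hAF
  haveI := hBn
  haveI : Nontrivial (↥A ⧸ B) := QuotientGroup.nontrivial_iff.2 fun h =>
    hA fun a ha => (h.ge (Subgroup.mem_top (⟨a, ha⟩ : A)) : _)
  have hconj : ∀ (Q : ℕ → Prop), ∀ c ∈ F.autGroup T, ∀ b b' : A, (b' : MulAut T) = c * b * c⁻¹ →
      b ∈ ker' B Q → b' ∈ ker' B Q := by
    intro Q c hc b b' he hb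
    let σ : A →* A := MonoidHom.mk' (fun g => ⟨c * g * c⁻¹,
      H89.WeakResidual.conj_mem_autGroup hG.weak.2.2 hTU hc g.2⟩) fun g g' => Subtype.ext (by
        show c * ((g : MulAut T) * g') * c⁻¹ = c * g * c⁻¹ * (c * g' * c⁻¹)
        group)
    have hσ : Function.Injective σ := fun g g' h => Subtype.ext (by
      have h' := congrArg Subtype.val h
      exact mul_left_cancel (mul_right_cancel (h' : c * g * c⁻¹ = c * g' * c⁻¹)))
    have h := ker'_map B Q hσ (fun g hg =>
      (H89.WeakResidual.conj_mem_autGroup hE.1.2.2 le_rfl hc hg : c * g * c⁻¹ ∈ E.autGroup T)) hb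
    rwa [show σ b = b' from Subtype.ext he.symm] at h
  have hnormal : ∀ Q : ℕ → Prop, (ker' B Q).Normal := fun Q => ⟨fun b hb g =>
    hconj Q g (hAF g.2) b (g * b * g⁻¹) rfl hb⟩
  rcases ker'_ne_top B hq with hK | hK
  · -- `p`-power step
    set K := ker' B fun n => n.Coprime p with hKdef
    haveI : K.Normal := hnormal _
    obtain ⟨m, hm⟩ := index_pPart (p := p) B
    set W := T ⊔ centralizerIn S T with hW
    have hWU : W ≤ T ⊔ centralizerIn U T := fun x hx => by
      obtain ⟨t, ht, c, hc, rfl⟩ := H89.ResidualExtend.exists_decomp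
        (fun c hc => (FusionSys.mem_centralizerIn.1 hc).2) hx
      exact Subgroup.mul_mem_sup ht ⟨hG.le (Subgroup.mem_sup_right hc), hc.2⟩
    have hlt : W ⊔ G.hyperfocalSubgroup p < U :=
      sup_hyperfocal_lt hUp hGs hEG hWU hK (le_ker' B _) hm
    set U' := W ⊔ G.hyperfocalSubgroup p with hU'
    have hU'U : U' ≤ U := hlt.le
    haveI : Finite U' := finite_of_le (hU'U.trans hUS)
    have hWcl : F.StronglyClosed W := S5255.result p hS F hF T hT
    have hyp := S5124.result p hUp G hGs
    have hU'n : ∀ g ∈ U, ∀ x ∈ U', g * x * g⁻¹ ∈ U' := fun g hg x hx => by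
      have hle : U' ≤ U'.comap (MulAut.conj g).toMonoidHom := sup_le
        (fun t ht => Subgroup.mem_sup_left (conj_mem_closed hWcl (hUS hg) ht))
        (fun t ht => Subgroup.mem_sup_right (conj_mem_closed hyp hg ht))
      exact hle hx
    obtain ⟨G', hG's, hG'i⟩ := exists_pPower hUp hGs hU'U le_sup_right
    have hG'n : G'.IsNormalIn G p := Fusion.PPower.isNormalIn hUp hGs hU'U hU'n hG's hG'i
    have hU'cl : F.StronglyClosed U' := by
      refine stronglyClosed_iff.2 ⟨hU'U.trans hUS, fun R f hR hf x hx => ?_⟩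
      obtain ⟨a, ha, g, hg, hge⟩ := frattini_map hG.weak.2.2 (hR.trans hU'U) hf
      have hgx := (stronglyClosed_iff.1 hG'n.1.2.2.2.1).2 R g hR hg x hx
      rw [hge x hx]
      have ham : IsMap F U (autMap a) := (mem_autGroup_iff hUS).1 ha
      have hmaps : ∀ y ∈ U', autMap a y ∈ U' := fun y hy =>
        (ham.mono hU'U).mapsTo_sup (A := W) (B := G.hyperfocalSubgroup p)
          (fun w hw => Subgroup.mem_sup_left
            ((stronglyClosed_iff.1 hWcl).2 W _ le_rfl (ham.mono (hG.le)) w hw))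
          (fun w hw => Subgroup.mem_sup_right (hyperfocal_aut hG.weak.2.2 ha hw)) hy
      exact hmaps _ hgx
    have hEG' : E.IsSubsystemOf G' :=
      H90.PPC.main hUp hTU hEG.1.1 hEG.1.2.2.1 (le_sup_left.trans le_sup_left) hG'i.2.2
    have hEn : E.IsNormalIn G' p := ⟨H89.Gen.weaklyNormal_sub hUp hG's hG'i.1 hU'U hEG.1 hEG',
      fun α hα => pPower_extension hUp hEG hU'U (le_sup_left.trans le_sup_left) hG'i hα⟩
    have hGood : Good p F E G' :=
      ⟨weaklyNormal_trans hG.weak hG'n.1 hU'cl (pPower_invUnder hS hG.weak.2.2 hU'U hG's hG'i),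
        hEn, le_sup_left,
        fun X => (limit_pPower_iff hUp hGs hG'n.1.2.2.2.1 hG's hG'i X).trans (hG.limit X)⟩
    refine ih _ (hn ▸ Nat.add_lt_add_of_lt_of_le (H89.card_lt_card_of_lt hlt)
      (Subgroup.card_le_of_le (H90.RL.autGroup_mono hG'i.1 (le_sup_left.trans le_sup_left) hTU)))
      G' hGood rfl
  · -- `p'`-step
    set K := ker' B fun n => ∃ k, n = p ^ k with hKdef
    haveI : K.Normal := hnormal _
    haveI : Nontrivial (↥A ⧸ K) := QuotientGroup.nontrivial_iff.2 hK
    have hΔ : (Nat.card (↥A ⧸ K)).Coprime p := by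
      rw [← Subgroup.index_eq_card]; exact index_primePart (p := p) B
    have hker : ∀ a : A, (a : MulAut T) ∈ E.autGroup T → QuotientGroup.mk' K a = 1 :=
      fun a ha => (QuotientGroup.eq_one_iff a).2 (le_ker' B _ ha)
    have hχ := QuotientGroup.mk'_surjective K
    obtain ⟨G', hEG', hG'n, hG'i, hlt, hEn, hinv⟩ :
        ∃ G' : FusionSystem U, E.IsSubsystemOf G' ∧ G'.IsNormalIn G p ∧ G'.HasPrimeToPIndexIn G p ∧
          G'.autGroup T < A ∧ E.IsNormalIn G' p ∧ InvUnder F G' := by
      obtain ⟨h1, h2, h3, h4, h5⟩ := theta_step hUp hGs hEG hΔ (QuotientGroup.mk' K) hχ hker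
      refine ⟨_, h1, h2, h3, h4, h5, theta_invUnder hG.weak.2.2 hE.1.2.2 hTU _ fun c hc b b' he hb => ?_⟩
      exact (QuotientGroup.eq_one_iff b').2 (hconj _ c hc b b' he ((QuotientGroup.eq_one_iff b).1 hb))
    have hGood : Good p F E G' :=
      ⟨weaklyNormal_trans hG.weak hG'n.1 hG.weak.2.2.2.1 hinv, hEn, hG.le,
        fun X => (limit_primeTo_iff hUp hGs hG'n.1.1 hG'i X).trans (hG.limit X)⟩
    exact ih _ (hn ▸ Nat.add_lt_add_left (H89.card_lt_card_of_lt hlt) _) G' hGood rfl

theorem envelope (hS : IsPGroup p S) (hF : F.IsSaturated p) (hE : E.IsNormalIn F p)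
    (hsolv : SolvableOver F E p) :
    ∃ G : FusionSystem (T ⊔ centralizerIn S T), G.IsNormalIn F p ∧ E.IsSubsystemOf G ∧
      G.autGroup T = E.autGroup T ∧
      ∀ {V : Subgroup Ω} (X : FusionSystem V),
        X.IsResidualLimitOf G p ↔ X.IsResidualLimitOf F p := by
  have hTS : T ≤ S := hE.1.2.2.2.1.1
  obtain ⟨G, hG, hA⟩ := descend hS hE hsolv F
    ⟨(isNormalIn_self hS hF).1, hE, sup_le hTS centralizerIn_le, fun _ => Iff.rfl⟩
  refine ⟨G, ⟨hG.weak, ?_⟩, hG.normal.1.2.2.1, hA, hG.limit⟩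
  set W := T ⊔ centralizerIn S T with hW
  intro α hα
  have hWS : W ≤ S := sup_le hTS centralizerIn_le
  have hcW : centralizerIn S W ≤ W := fun c hc => Subgroup.mem_sup_right
    (FusionSys.mem_centralizerIn.2 ⟨hc.1, fun t ht =>
      (FusionSys.mem_centralizerIn.1 hc).2 t (Subgroup.mem_sup_left ht)⟩)
  have hX : W ⊔ centralizerIn S W = W := sup_eq_left.2 hcW
  have hαm : IsMap F W (autMap α) := isMap_of_sub hG.weak.2.2.1 ((mem_autGroup_iff le_rfl).1 hα)
  haveI : Finite (W ⊔ centralizerIn S W : Subgroup Ω) := finite_of_le (hX.le.trans hWS)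
  obtain ⟨β, hβ, hβe⟩ := (isIso_of_mapsTo (hαm.mono hX.le) fun x hx =>
    Subgroup.mem_sup_left (autMap_mem α (hX.le hx))).exists_aut
  refine ⟨β, hβ, fun x => ?_, fun c hc => ?_⟩
  · rw [← autMap_coe β, Subgroup.coe_inclusion, hβe _ (Subgroup.mem_sup_left x.2), autMap_coe]
  · rw [← autMap_coe β, hβe _ c.2]
    have hcm := hcW hc
    have hcc := (FusionSys.mem_centralizerIn.1 hc).2
    refine ⟨W.mul_mem (W.inv_mem hcm) (autMap_mem α hcm),
      Subgroup.mul_mem _ (Subgroup.inv_mem _ fun y hy => hcc y hy) fun y hy => ?_⟩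
    have hy' : autMap α⁻¹ y ∈ W := autMap_mem _ hy
    rw [← autMap_inv_apply α hy, ← hαm.map_mul hy' hcm, ← hαm.map_mul hcm hy', hcc _ hy']

end Cfsg.Agent.H3.ResidualSolvable
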