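import Cfsg.Agent.H3.ResidualSolvable.Step

/-!
Invariance under automorphisms of the ambient system of the subsystems used in the descent.
-/

set_option autoImplicit false
set_option linter.unusedSectionVars false
set_option linter.style.haveILetI false

namespace Cfsg.Agent.H3.ResidualSolvable

open Cfsg Cfsg.FusionSystem Cfsg.Agent.FusionSys Cfsg.Agent.H91.CentFocal
open Cfsg.FusionSystem (centralizerIn normalizerIn)

universe u

variable {Ω : Type u} [Group Ω] {p : ℕ} {S U U' T : Subgroup Ω} {F : FusionSystem S}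
  {G : FusionSystem U} {G' : FusionSystem U'} {E : FusionSystem T}

/-- `G'` is invariant under the elements of `Aut_F(U')`. -/
def InvUnder (F : FusionSystem S) (G' : FusionSystem U') : Prop :=
  ∀ a ∈ F.autGroup U', ∀ (P : Subgroup Ω) (f : Ω → Ω), IsMap G' P f →
    ∃ g, IsMap G' (imgSub (autMap a) P) g ∧ ∀ x ∈ P, g (autMap a x) = autMap a (f x)

variable [Finite S]

/-- Transitivity of weak normality for an invariant subsystem. -/
theorem weaklyNormal_trans (hG : G.IsWeaklyNormalIn F p) (hG' : G'.IsWeaklyNormalIn G p)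
    (hU' : F.StronglyClosed U') (hinv : InvUnder F G') : G'.IsWeaklyNormalIn F p := by
  have hUS : U ≤ S := hG.2.2.2.1.1
  have hU'U : U' ≤ U := hG'.2.2.2.1.1
  refine ⟨hG'.1, hG.2.1, fun P φ hφ => hG.2.2.1 P (hG'.2.2.1 P hφ), hU', fun P hP φ hφ a ha => ?_,
    fun P hP φ hφ => ?_⟩
  · obtain ⟨g, hg, hge⟩ := hinv a ha P _ (isMap_of_mem hφ)
    have ham : IsMap F U' (autMap a) := (mem_autGroup_iff hU'.1).1 ha
    have himg : (P.subgroupOf U').map (U'.subtype.comp a.toMonoidHom) = imgSub (autMap a) P := by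
      ext z
      constructor
      · rintro ⟨w, hw, rfl⟩
        exact (ham.mono hP).mem_imgSub.2 ⟨w, hw, autMap_coe a w⟩
      · intro hz
        obtain ⟨x, hx, rfl⟩ := (ham.mono hP).mem_imgSub.1 hz
        exact ⟨⟨x, hP hx⟩, hx, (autMap_apply a (hP hx)).symm⟩
    obtain ⟨ψ, hψ, hψe⟩ := (hg.mono himg.le :
      IsMap G' ((P.subgroupOf U').map (U'.subtype.comp a.toMonoidHom)) g)
    refine ⟨ψ, hψ, fun x hφx hax => ?_⟩
    rw [hψe]
    show g ((a ⟨(x : Ω), hP x.2⟩ : U') : Ω) = _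
    rw [← autMap_apply a (hP x.2), hge x x.2, homFun_coe, autMap_apply a hφx]
  · haveI : Finite U := finite_of_le hUS
    haveI : Finite U' := finite_of_le hU'.1
    obtain ⟨a, ha, g, hg, hge⟩ := frattini_map hG.2.2 (hP.trans hU'U) (isMap_of_mem hφ)
    obtain ⟨b, hb, h, hh, hhe⟩ := frattini_map hG'.2.2 hP hg
    have ham : IsMap F U' (autMap a) := ((mem_autGroup_iff hUS).1 ha).mono hU'U
    obtain ⟨a', ha', ha'e⟩ := (isIso_of_mapsTo ham fun x hx =>
      (stronglyClosed_iff.1 hU').2 U' _ le_rfl ham x hx).exists_aut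
    obtain ⟨ψ, hψ, hψe⟩ := hh
    refine ⟨a' * b, mul_mem ha' (H90.RL.autGroup_mono hG.2.2.1 hU'U hU'.1 hb), ψ, hψ,
      fun x hx => ?_⟩
    rw [← autMap_apply (a' * b) hx, autMap_mul _ _ hx, ha'e _ (autMap_mem _ hx), hψe x,
      ← hhe x x.2, ← hge x x.2, homFun_coe]

/-- The hyperfocal subgroup of an invariant subsystem is invariant. -/
theorem hyperfocal_aut (hG : G.IsInvariantIn F) {a : MulAut U} (ha : a ∈ F.autGroup U) {x : Ω}
    (hx : x ∈ G.hyperfocalSubgroup p) : autMap a x ∈ G.hyperfocalSubgroup p := by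
  have hUS : U ≤ S := hG.2.1.1
  have ham : IsMap F U (autMap a) := (mem_autGroup_iff hUS).1 ha
  induction hx using Subgroup.closure_induction with
  | one => rw [ham.map_one]; exact one_mem _
  | mul y z hy hz ihy ihz =>
    rw [ham.map_mul (H90.RL.hyperfocal_le G hy) (H90.RL.hyperfocal_le G hz)]
    exact mul_mem ihy ihz
  | inv y hy ih => rw [ham.map_inv (H90.RL.hyperfocal_le G hy)]; exact inv_mem ih
  | mem y hy =>
    obtain ⟨P, α, z, hP, hα, rfl⟩ := hy
    have hi := (ham.mono hP).isIso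
    have hQU : imgSub (autMap a) P ≤ U := fun w hw => by
      obtain ⟨v, hv, rfl⟩ := (ham.mono hP).mem_imgSub.1 hw
      exact autMap_mem _ (hP hv)
    let j : G.autGroup P →* G.autGroup (imgSub (autMap a) P) :=
      (hi.autEquiv.toMonoidHom.comp (G.autGroup P).subtype).codRestrict _
        fun β => autEquiv_mem hG hP hi β.2
    have hαz : ((α : MulAut P) z : Ω) ∈ P := ((α : MulAut P) z).2
    refine Subgroup.subset_closure ⟨_, j α, ⟨autMap a z, hi.mem z.2⟩, hQU,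
      Fusion.map_pResidual_le j ⟨α, hα, rfl⟩, ?_⟩
    show autMap a ((z : Ω)⁻¹ * ((α : MulAut P) z : P)) =
      (autMap a z)⁻¹ * ((hi.autEquiv (α : MulAut P) ⟨autMap a z, hi.mem z.2⟩ : imgSub (autMap a) P) : Ω)
    rw [← autMap_apply (hi.autEquiv (α : MulAut P)) (hi.mem z.2), hi.autMap_autEquiv _ z.2,
      ham.map_mul (U.inv_mem (hP z.2)) (hP hαz), ham.map_inv (hP z.2), autMap_coe (α : MulAut P) z]

variable [Fact p.Prime]

/-- A subsystem of `p`-power index of an invariant subsystem is invariant. -/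
theorem pPower_invUnder (hS : IsPGroup p S) (hG : G.IsInvariantIn F) (hU'U : U' ≤ U)
    (hG's : G'.IsSaturated p) (hG'i : G'.HasPPowerIndexIn G p) : InvUnder F G' := by
  intro a ha P f hf
  have hUS : U ≤ S := hG.2.1.1
  have hU'S : U' ≤ S := hU'U.trans hUS
  haveI : Finite U := finite_of_le hUS
  have ham : IsMap F U' (autMap a) := (mem_autGroup_iff hU'S).1 ha
  have hpull : G'.IsSubsystemOf (Fusion.PPower.pull G' a) := by
    refine H90.PPC.main (hS.to_le hUS) hU'U hG's hG'i.1 le_rfl fun R hR => ?_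
    rintro _ ⟨β, hβ, rfl⟩
    have hi := (ham.mono hR).isIso
    have hQ : imgSub (autMap a) R ≤ U' := fun w hw => by
      obtain ⟨v, hv, rfl⟩ := (ham.mono hR).mem_imgSub.1 hw
      exact autMap_mem _ (hR hv)
    let j : G.autGroup R →* G.autGroup (imgSub (autMap a) R) :=
      (hi.autEquiv.toMonoidHom.comp (G.autGroup R).subtype).codRestrict _
        fun δ => autEquiv_mem hG (hR.trans hU'U) hi δ.2
    have hδ : hi.autEquiv (β : MulAut R) ∈ G'.autGroup (imgSub (autMap a) R) :=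
      hG'i.2.2 _ hQ ⟨j β, Fusion.map_pResidual_le j ⟨β, hβ, rfl⟩, rfl⟩
    have hle : Fusion.PPower.aimg a R ≤ imgSub (autMap a) R := by
      rintro _ ⟨w, hw, rfl⟩
      exact (ham.mono hR).mem_imgSub.2 ⟨w, hw, autMap_coe a w⟩
    obtain ⟨χ, hχ, hχe⟩ := ((mem_autGroup_iff hQ).1 hδ).mono hle
    refine H90.aut_mem_of_hom _ ⟨hR, fun x => hR ((β : MulAut R) x).2, χ, hχ, fun x hx hφ => ?_⟩
    rw [hχe]
    show autMap (hi.autEquiv (β : MulAut R)) ((a ⟨x, hx⟩ : U') : Ω) = _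
    rw [← autMap_apply a hx, hi.autMap_autEquiv _ x.2, ← autMap_apply a hφ]
    exact congrArg _ (autMap_coe (β : MulAut R) x)
  obtain ⟨φ, hφ, hφe⟩ := isMap_of_sub hpull hf
  obtain ⟨hP, hφT, χ, hχ, hχe⟩ := hφ
  have hle : imgSub (autMap a) P ≤ Fusion.PPower.aimg a P := fun z hz => by
    obtain ⟨x, hx, rfl⟩ := (ham.mono hP).mem_imgSub.1 hz
    exact ⟨⟨x, hP hx⟩, hx, (autMap_apply a (hP hx)).symm⟩
  refine ⟨homFun χ, (isMap_of_mem hχ).mono hle, fun x hx => ?_⟩
  have hmem := Fusion.PPower.mem_aimg (α := a) (x := ⟨x, hP hx⟩) (P := P) hx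
  rw [autMap_apply a (hP hx), homFun_mem χ hmem, hχe ⟨x, hx⟩ (hP hx) (hφT _),
    ← autMap_apply a (hφT _), hφe ⟨x, hx⟩]

/-- The subsystem of a character is invariant when its kernel is. -/
theorem theta_invUnder (hG : G.IsInvariantIn F) (hE : E.IsInvariantIn F) (hTU : T ≤ U)
    {Δ : Type*} [Group Δ] (χ : G.autGroup T →* Δ)
    (hnor : ∀ c ∈ F.autGroup T, ∀ b b' : G.autGroup T, (b' : MulAut T) = c * b * c⁻¹ → χ b = 1 →
      χ b' = 1) : InvUnder F (H91.Theta.F0 G E χ) := by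
  intro a ha P f hf
  have hUS : U ≤ S := hG.2.1.1
  have hT : F.StronglyClosed T := hE.2.1
  haveI : Finite U := finite_of_le hUS
  haveI : Finite T := finite_of_le hT.1
  have ham : IsMap F U (autMap a) := (mem_autGroup_iff hUS).1 ha
  set G₀ := H91.Theta.F0 G E χ
  obtain ⟨c, hc, hce⟩ := (isIso_of_mapsTo (ham.mono hTU) fun x hx =>
    (stronglyClosed_iff.1 hT).2 T _ le_rfl (ham.mono hTU) x hx).exists_aut
  have hcm : IsMap F T (autMap c) := (mem_autGroup_iff hT.1).1 hc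
  have haT : ∀ x ∈ U, autMap a x ∈ T → x ∈ T := fun x hx hax => by
    have h1 : autMap c⁻¹ (autMap a x) ∈ T := autMap_mem _ hax
    have h2 : autMap a (autMap c⁻¹ (autMap a x)) = autMap a x := by
      rw [← hce _ h1, autMap_inv_apply c hax]
    exact ham.injOn (hTU h1) hx h2 ▸ h1
  let F' : FusionSystem U := subSys G (fun P f => ∃ g, IsMap G₀ (imgSub (autMap a) P) g ∧
      ∀ x ∈ P, g (autMap a x) = autMap a (f x))
    (fun P f f' ⟨g, hg, hge⟩ he => ⟨g, hg, fun x hx => by rw [hge x hx, he x hx]⟩)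
    (fun P s hP hs => ⟨conjMap (autMap a s), isMap_conj G₀ (fun y hy => by
        obtain ⟨x, hx, rfl⟩ := (ham.mono hP).mem_imgSub.1 hy
        exact autMap_mem _ (hP hx)) (autMap_mem a hs),
      fun x hx => by rw [conjMap_apply, conjMap_apply, ham.map_conj hs (hP hx)]⟩)
    (fun P Q u v hu hv hm ⟨g, hg, hge⟩ ⟨k, hk, hke⟩ => by
      refine ⟨k ∘ g, hg.comp hk fun y hy => ?_, fun x hx => ?_⟩
      · obtain ⟨x, hx, rfl⟩ := (ham.mono hu.le).mem_imgSub.1 hy
        rw [hge x hx]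
        exact (ham.mono hv.le).mem_imgSub.2 ⟨u x, hm x hx, rfl⟩
      · rw [Function.comp_apply, Function.comp_apply, hge x hx, hke _ (hm x hx)])
    (fun P Q u v hu hv hinv ⟨g, hg, hge⟩ => by
      obtain ⟨g', hg', hg'g⟩ := hg.exists_inv
      have hP := hu.source_le
      refine ⟨g', hg'.mono fun y hy => ?_, fun z hz => ?_⟩
      · obtain ⟨z, hz, rfl⟩ := (ham.mono hu.target_le).mem_imgSub.1 hy
        obtain ⟨x, hx, rfl⟩ := hu.exists_preimage hz
        exact hg.mem_imgSub.2 ⟨_, (ham.mono hP).mem_imgSub.2 ⟨x, hx, rfl⟩, hge x hx⟩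
      · obtain ⟨x, hx, rfl⟩ := hu.exists_preimage hz
        rw [hinv x hx, ← hge x hx, hg'g _ ((ham.mono hP).mem_imgSub.2 ⟨x, hx, rfl⟩)])
  obtain ⟨φ, ⟨-, g, hg, hge⟩, hφe⟩ := H91.Theta.isMap_F0_iff.1 hf F' fun Q u hQ hu hv => by
    obtain ⟨φ, hφ, hφe⟩ := hu
    have hum : IsMap G Q u := ⟨φ, hφ, hφe⟩
    have hQU : Q ≤ U := hQ.1
    obtain ⟨k, hk, hke⟩ := invariant_map hG ha hum
    obtain ⟨b, hb, ψ, hψ, hbe⟩ := hv
    have haQ := ham.mono hQU
    have hQ'U : imgSub (autMap a) Q ≤ U := fun y hy => by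
      obtain ⟨x, hx, rfl⟩ := haQ.mem_imgSub.1 hy
      exact autMap_mem _ (hQU hx)
    -- the image lies in the class
    have hQ' : H91.Theta.Hp G T (imgSub (autMap a) Q) := by
      refine ⟨hQ'U, fun R hR z hz => ?_⟩
      obtain ⟨w, hw⟩ := isConj_iff.1 hR
      obtain ⟨hz1, hz2⟩ := FusionSys.mem_centralizerIn.1 hz
      have hzU : z ∈ U := hTU hz1
      have haU : ∀ y ∈ U, autMap a (autMap a⁻¹ y) = y := fun y hy => autMap_inv_apply a hy
      obtain ⟨k', hk', hk'e⟩ := invariant_map hG (inv_mem ha) hw.isMap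
      have ham' : IsMap F U (autMap a⁻¹) := (mem_autGroup_iff hUS).1 (inv_mem ha)
      have hle : Q ⊓ T ≤ imgSub (autMap a⁻¹) (imgSub (autMap a) Q ⊓ T) := fun x hx => by
        refine (ham'.mono hw.source_le).mem_imgSub.2 ⟨autMap a x, ⟨haQ.mem_imgSub.2 ⟨x, hx.1, rfl⟩, ?_⟩, ?_⟩
        · rw [← hce x hx.2]; exact autMap_mem _ hx.2
        · rw [← autMap_mul a⁻¹ a (hQU hx.1), inv_mul_cancel, FusionSys.autMap_one (hQU hx.1)]
      have hk'm := hk'.mono hle
      have hcen := hQ.2 (imgSub k' (Q ⊓ T)) hk'm.isIso.isConj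
      have hRe : ∀ x ∈ Q ⊓ T, k' x = autMap a⁻¹ (w (autMap a x)) := fun x hx => by
        have hax : autMap a x ∈ imgSub (autMap a) Q ⊓ T :=
          ⟨haQ.mem_imgSub.2 ⟨x, hx.1, rfl⟩, by rw [← hce x hx.2]; exact autMap_mem _ hx.2⟩
        have := hk'e _ hax
        rwa [← autMap_mul a⁻¹ a (hQU hx.1), inv_mul_cancel, FusionSys.autMap_one (hQU hx.1)] at this
      have hzC : autMap a⁻¹ z ∈ centralizerIn T (imgSub k' (Q ⊓ T)) := by
        refine FusionSys.mem_centralizerIn.2 ⟨haT _ (autMap_mem _ hzU) (by rw [haU z hzU]; exact hz1),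
          fun y hy => ?_⟩
        obtain ⟨x, hx, rfl⟩ := hk'm.mem_imgSub.1 hy
        rw [hRe x hx]
        have hax : autMap a x ∈ imgSub (autMap a) Q ⊓ T :=
          ⟨haQ.mem_imgSub.2 ⟨x, hx.1, rfl⟩, by rw [← hce x hx.2]; exact autMap_mem _ hx.2⟩
        have hwU : w (autMap a x) ∈ U := hw.isMap.mem_S hax
        rw [← ham'.map_mul hwU hzU, ← ham'.map_mul hzU hwU, hz2 _ (hw.mem hax)]
      obtain ⟨x, hx, hxe⟩ := hk'm.mem_imgSub.1 (hcen hzC)
      have hax : autMap a x ∈ imgSub (autMap a) Q ⊓ T :=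
        ⟨haQ.mem_imgSub.2 ⟨x, hx.1, rfl⟩, by rw [← hce x hx.2]; exact autMap_mem _ hx.2⟩
      have hwU : w (autMap a x) ∈ U := hw.isMap.mem_S hax
      rw [hRe x hx] at hxe
      have : w (autMap a x) = z := by rw [← haU _ hwU, hxe, haU z hzU]
      exact this ▸ hw.mem hax
    -- the image has trivial value
    have hbcT : c * (b : MulAut T) * c⁻¹ ∈ G.autGroup T :=
      H89.WeakResidual.conj_mem_autGroup hG hTU hc b.2
    obtain ⟨ω, hω, hωe⟩ := invariant_map hE hc hψ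
    have hle2 : imgSub (autMap a) Q ⊓ T ≤ imgSub (autMap c) (Q ⊓ T) := fun y hy => by
      obtain ⟨x, hx, rfl⟩ := haQ.mem_imgSub.1 hy.1
      have hxT := haT x (hQU hx) hy.2
      exact (hcm.mono inf_le_right).mem_imgSub.2 ⟨x, ⟨hx, hxT⟩, hce x hxT⟩
    have hval : H91.Theta.Val G E χ (imgSub (autMap a) Q) k 1 := by
      refine ⟨⟨_, hbcT⟩, hnor c hc b ⟨_, hbcT⟩ rfl hb, ω, hω.mono hle2, fun y hy => ?_⟩
      obtain ⟨x, hx, rfl⟩ := haQ.mem_imgSub.1 hy.1
      have hxT := haT x (hQU hx) hy.2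
      have hψT : ψ x ∈ T := hψ.mem_S ⟨hx, hxT⟩
      have hωx : ω (autMap a x) = autMap c (ψ x) := by
        rw [← hce x hxT]; exact hωe x ⟨hx, hxT⟩
      rw [hke x hx, hbe x ⟨hx, hxT⟩, ← hce _ (autMap_mem _ hψT), hωx]
      show _ = autMap (c * (b : MulAut T) * c⁻¹) _
      rw [autMap_mul _ _ (autMap_mem _ hψT), autMap_mul _ _ (autMap_mem _ (autMap_mem _ hψT)),
        ← autMap_mul c⁻¹ c hψT, inv_mul_cancel, FusionSys.autMap_one hψT]
    refine ⟨φ, ⟨hφ, k, H91.Theta.isMap_F0_of_val hQ' hk hval, fun x hx => ?_⟩, hφe⟩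
    rw [hke x hx, homFun_mem φ hx, hφe ⟨x, hx⟩]
  exact ⟨g, hg, fun x hx => by rw [hge x hx, homFun_mem φ hx]; exact congrArg _ (hφe ⟨x, hx⟩)⟩

end Cfsg.Agent.H3.ResidualSolvable
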