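import Cfsg.Agent.H90.ResidualLimit
import Cfsg.Agent.H89.Gen.SubNormal
import Cfsg.Agent.Fusion.PPower.Normal
import Cfsg.Agent.S5113
import Cfsg.Agent.S5120
import Cfsg.Agent.S5124
import Cfsg.Agent.S5129
import Cfsg.Agent.S5140
import Cfsg.Agent.S5141
import Cfsg.Agent.S5142

/-!
The residual limits of a saturated system are those of its subsystems of `p`-power index and of its
`p'`-residual subsystem.
-/

set_option autoImplicit false
set_option linter.unusedSectionVars false
set_option linter.style.haveILetI false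

namespace Cfsg.Agent.H3.ResidualSolvable

open Cfsg Cfsg.FusionSystem Cfsg.Agent.FusionSys

variable {Ω : Type*} [Group Ω] {p : ℕ}

/-- The elements of order prime to `p` of the automizers of a subsystem. -/
theorem pResidual_map_le {S T : Subgroup Ω} {F : FusionSystem S} {E : FusionSystem T}
    (hEF : E.IsSubsystemOf F) {P : Subgroup Ω} (hPT : P ≤ T) (hPS : P ≤ S) :
    (pResidual p (E.autGroup P)).map (E.autGroup P).subtype ≤
      (pResidual p (F.autGroup P)).map (F.autGroup P).subtype := by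
  refine Subgroup.map_le_iff_le_comap.2 ((Subgroup.closure_le _).2 fun g hg => ?_)
  refine ⟨⟨g, H90.RL.autGroup_mono hEF hPT hPS g.2⟩, Subgroup.subset_closure ?_, rfl⟩
  show Nat.Coprime (orderOf _) p
  rw [Subgroup.orderOf_mk, Subgroup.orderOf_coe]
  exact hg

theorem hyperfocal_mono {S T : Subgroup Ω} {F : FusionSystem S} {E : FusionSystem T}
    (hEF : E.IsSubsystemOf F) (hTS : T ≤ S) :
    E.hyperfocalSubgroup p ≤ F.hyperfocalSubgroup p := by
  refine (Subgroup.closure_le _).2 ?_
  rintro y ⟨P, α, x, hP, hα, rfl⟩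
  obtain ⟨β, hβ, hβα⟩ := pResidual_map_le hEF hP (hP.trans hTS)
    (⟨α, hα, rfl⟩ : (α : MulAut P) ∈ (pResidual p (E.autGroup P)).map (E.autGroup P).subtype)
  exact Subgroup.subset_closure ⟨P, β, x, hP.trans hTS, hβ, by rw [show (β : MulAut P) = α from hβα]⟩

/-- `IsResidualLimitOf.step` over a subgroup equal to the hyperfocal subgroup. -/
theorem step_cast {S W V : Subgroup Ω} {F : FusionSystem S} (D D' : FusionSystem W)
    (hW : W = F.hyperfocalSubgroup p) (h1 : D.IsSaturated p) (h2 : D.HasPPowerIndexIn F p)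
    (h3 : D.IsPPrimeResidual p D') (X : FusionSystem V) (h4 : X.IsResidualLimitOf D' p) :
    X.IsResidualLimitOf F p := by
  subst hW
  exact FusionSystem.IsResidualLimitOf.step F p D D' ⟨h1, h2⟩ h3 h4

variable [hp : Fact p.Prime]

theorem pPrime_unique {S : Subgroup Ω} {F G G' : FusionSystem S} (h : F.IsPPrimeResidual p G)
    (h' : F.IsPPrimeResidual p G') : G = G' :=
  H90.RL.eq_of_subsystem (h.2.2 _ h'.1 h'.2.1) (h'.2.2 _ h.1 h.2.1)

theorem pPower_unique {S T : Subgroup Ω} [Finite S] (hS : IsPGroup p S) {F : FusionSystem S}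
    (hTS : T ≤ S) {E E' : FusionSystem T} (h₁ : E.IsSaturated p) (h₁' : E.HasPPowerIndexIn F p)
    (h₂ : E'.IsSaturated p) (h₂' : E'.HasPPowerIndexIn F p) : E = E' := by
  obtain ⟨a, b⟩ := H90.RL.residual_unique hS rfl hTS h₁ h₁' h₂ h₂'
  exact H90.RL.eq_of_subsystem a b

/-- A subsystem of `p`-power index has the same residual limits. -/
theorem limit_pPower_iff {S T V : Subgroup Ω} [Finite S] (hS : IsPGroup p S) {F : FusionSystem S}
    (hF : F.IsSaturated p) (hcl : F.StronglyClosed T) {E : FusionSystem T}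
    (hEs : E.IsSaturated p) (hE : E.HasPPowerIndexIn F p) (X : FusionSystem V) :
    X.IsResidualLimitOf E p ↔ X.IsResidualLimitOf F p := by
  have hTS : T ≤ S := hcl.1
  have hyp := H90.RL.hyperfocal_eq hS hTS hcl hE
  constructor
  · intro h
    cases h with
    | stable _ _ hh hs =>
      exact step_cast E E (hh.symm.trans hyp) hEs hE hs E
        (FusionSystem.IsResidualLimitOf.stable E p hh hs)
    | step _ _ D D' hD hD' h =>
      refine step_cast D D' hyp hD.1
        ⟨fun P φ hφ => hE.1 P (hD.2.1 P hφ), hyp ▸ le_rfl, fun P hP => ?_⟩ hD' X h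
      have hPT : P ≤ T := hP.trans (H90.RL.hyperfocal_le E)
      refine Subgroup.map_le_iff_le_comap.2 ((Subgroup.closure_le _).2 fun g hg => ?_)
      have hgE : (g : MulAut P) ∈ E.autGroup P :=
        hE.2.2 P hPT ⟨g, Fusion.mem_pResidual hg, rfl⟩
      refine hD.2.2.2 P hP ⟨⟨g, hgE⟩, Fusion.mem_pResidual ?_, rfl⟩
      rw [Subgroup.orderOf_mk, Subgroup.orderOf_coe]
      exact hg
  · intro h
    cases h with
    | stable _ _ hh hs =>
      obtain rfl : T = S := le_antisymm hTS (hh.ge.trans hE.2.1)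
      obtain rfl : E = F := pPower_unique hS le_rfl hEs hE hF (H90.RL.selfIndex F)
      exact FusionSystem.IsResidualLimitOf.stable E p hh hs
    | step _ _ D D' hD hD' h =>
      have hDE : D.IsSubsystemOf E :=
        H90.PPC.main hS (H90.RL.hyperfocal_le F) hD.1 hD.2.1 hE.2.1 hE.2.2
      exact step_cast D D' hyp.symm hD.1
        ⟨hDE, hyp.le, fun P hP => (pResidual_map_le hE.1 (hP.trans hE.2.1)
          (hP.trans (H90.RL.hyperfocal_le F))).trans (hD.2.2.2 P hP)⟩ hD' X h

theorem isNormalIn_self {S : Subgroup Ω} [Finite S] (hS : IsPGroup p S) {F : FusionSystem S}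
    (hF : F.IsSaturated p) : F.IsNormalIn F p :=
  Fusion.PPower.isNormalIn hS hF le_rfl
    (fun _ hg _ hx => S.mul_mem (S.mul_mem hg hx) (S.inv_mem hg)) hF (H90.RL.selfIndex F)

theorem exists_pPrime {S : Subgroup Ω} [Finite S] (hS : IsPGroup p S) {F : FusionSystem S}
    (hF : F.IsSaturated p) : ∃ G, F.IsPPrimeResidual p G :=
  S5140.result p hS F hF

theorem exists_pPower {S T : Subgroup Ω} [Finite S] (hS : IsPGroup p S) {F : FusionSystem S}
    (hF : F.IsSaturated p) (hTS : T ≤ S) (h : F.hyperfocalSubgroup p ≤ T) :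
    ∃ E : FusionSystem T, E.IsSaturated p ∧ E.HasPPowerIndexIn F p := by
  obtain ⟨E, hE, -⟩ := S5113.result p hS F hF T hTS h
  exact ⟨E, hE⟩

theorem pPower_normal {S T : Subgroup Ω} [Finite S] (hS : IsPGroup p S) {F : FusionSystem S}
    (hF : F.IsSaturated p) (hT : F.StronglyClosed T) {E : FusionSystem T} (hEs : E.IsSaturated p)
    (hE : E.HasPPowerIndexIn F p) : E.IsNormalIn F p :=
  Fusion.PPower.isNormalIn hS hF hT.1 (fun _ hg _ hx => H91.CentFocal.conj_mem_closed hT hg hx) hEs hE

theorem exists_meet {S T W : Subgroup Ω} [Finite S] (hS : IsPGroup p S) {F G : FusionSystem S}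
    {D : FusionSystem T} (hF : F.IsSaturated p) (hG : G.IsNormalIn F p) (hD : D.IsNormalIn F p)
    (hW : S ⊓ T = W) : ∃ X : FusionSystem W, X.IsNormalIn G p ∧ X.IsNormalIn D p := by
  subst hW
  obtain ⟨X, hX, -⟩ := S5129.result p hS F hF G D hG hD
  exact ⟨X, hX.2.1, hX.2.2⟩

/-- The `p'`-residual subsystem has the same residual limits. -/
theorem limit_pPrime_iff {S : Subgroup Ω} [Finite S] (hS : IsPGroup p S) {F G : FusionSystem S}
    (hF : F.IsSaturated p) (hG : F.IsPPrimeResidual p G) {V : Subgroup Ω} (X : FusionSystem V) :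
    X.IsResidualLimitOf G p ↔ X.IsResidualLimitOf F p := by
  induction hn : Nat.card S using Nat.strong_induction_on generalizing S F G with
  | _ n ih =>
  set U := F.hyperfocalSubgroup p with hU
  have hUS : U ≤ S := H90.RL.hyperfocal_le F
  rcases hUS.eq_or_lt with hh | hlt
  · have of_step : ∀ {W : Subgroup Ω} (D D' : FusionSystem W), W = S → D.IsSaturated p →
        D.HasPPowerIndexIn F p → D.IsPPrimeResidual p D' → X.IsResidualLimitOf D' p →
        X.IsResidualLimitOf G p := by
      intro W D D' hW h1 h2 h3 h4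
      subst hW
      obtain rfl : D = F := pPower_unique hS le_rfl h1 h2 hF (H90.RL.selfIndex F)
      obtain rfl : D' = G := pPrime_unique h3 hG
      exact h4
    refine ⟨fun h => step_cast F G hh.symm hF (H90.RL.selfIndex F) hG X h, fun h => ?_⟩
    cases h with
    | stable _ _ hh' hs =>
      obtain rfl : G = X := pPrime_unique hG hs
      exact FusionSystem.IsResidualLimitOf.stable G p hh' hs
    | step _ _ D D' hD hD' h => exact of_step D D' hh hD.1 hD.2 hD' h
  · haveI : Finite U := finite_of_le hUS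
    have hUp : IsPGroup p U := hS.to_le hUS
    have hUcl : F.StronglyClosed U := S5124.result p hS F hF
    have hUclG : G.StronglyClosed U := H89.Gen.closed_sub hG.2.1.1 hUcl hUS
    obtain ⟨D, hDs, hDi⟩ := exists_pPower hS hF hUS le_rfl
    obtain ⟨D', hD'⟩ := exists_pPrime hUp hDs
    obtain ⟨GU, hGUs, hGUi⟩ := exists_pPower hS hG.1 hUS (hyperfocal_mono hG.2.1.1 le_rfl)
    obtain ⟨M₁, hM₁⟩ := exists_pPrime hUp hGUs
    have hDn := pPower_normal hS hF hUcl hDs hDi
    have hGn : G.IsNormalIn F p := S5141.result p hS F hF F (isNormalIn_self hS hF).1 G hG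
    obtain ⟨Y, hYG, hYD⟩ := exists_meet hS hF hGn hDn (inf_eq_right.2 hUS)
    obtain ⟨M₂, hM₂⟩ := exists_pPrime hUp hYG.1.1
    have hGUn := pPower_normal hS hG.1 hUclG hGUs hGUi
    have hM₁G := S5141.result p hS G hG.1 GU hGUn.1 M₁ hM₁
    have hM₂G := S5141.result p hS G hG.1 Y hYG.1 M₂ hM₂
    have hM₂D := S5141.result p hUp D hDs Y hYD.1 M₂ hM₂
    have hD'D := S5141.result p hUp D hDs D (isNormalIn_self hUp hDs).1 D' hD'
    obtain rfl : M₁ = M₂ := H90.RL.eq_of_subsystem
      (S5142.result p hS G hG.1 GU hGUn M₁ hM₁ M₂ hM₂G)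
      (S5142.result p hS G hG.1 Y hYG M₂ hM₂ M₁ hM₁G)
    obtain rfl : M₁ = D' := H90.RL.eq_of_subsystem
      (S5142.result p hUp D hDs Y hYD M₁ hM₂ D' hD'D)
      (S5142.result p hUp D hDs D (isNormalIn_self hUp hDs) D' hD' M₁ hM₂D)
    rw [← limit_pPower_iff hS hG.1 hUclG hGUs hGUi X,
      ← ih _ (hn ▸ H89.card_lt_card_of_lt hlt) hUp hGUs hM₁ rfl]
    refine ⟨fun h => step_cast D M₁ rfl hDs hDi hD' X h, fun h => ?_⟩
    cases h with
    | stable _ _ hh' hs => exact absurd hh' hlt.ne
    | step _ _ D₀ D₀' hD₀ hD₀' h =>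
      obtain rfl : D₀ = D := pPower_unique hS hUS hD₀.1 hD₀.2 hDs hDi
      obtain rfl : D₀' = M₁ := pPrime_unique hD₀' hD'
      exact h

end Cfsg.Agent.H3.ResidualSolvable
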