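import Cfsg.Agent.H3.ResidualSolvable.Step

/-!
Residual limits of a normal subsystem with small centralizer and `p`-solvable automizer quotient.
-/

set_option autoImplicit false
set_option linter.unusedSectionVars false
set_option linter.style.haveILetI false

namespace Cfsg.Agent.H3.ResidualSolvable

open Cfsg Cfsg.FusionSystem Cfsg.Agent.FusionSys

universe u

variable {Ω : Type u} [Group Ω] {p : ℕ} [Fact p.Prime] {T : Subgroup Ω} {E : FusionSystem T}

theorem main {S : Subgroup Ω} [Finite S] (hS : IsPGroup p S) {F : FusionSystem S}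
    (hF : F.IsSaturated p) (hE : E.IsNormalIn F p) (hCE : SmallCentralizer F E)
    (hsolv : SolvableOver F E p) {V : Subgroup Ω} (X : FusionSystem V)
    (hX : X.IsResidualLimitOf E p) : X.IsResidualLimitOf F p := by
  induction hn : Nat.card S + Nat.card (F.autGroup T) using Nat.strong_induction_on
    generalizing S F V X with
  | _ n ih =>
  have hrec : Smaller p F E := fun {U} G hUS hlt hGs hEG hCG hsG {W} Y hY => by
    haveI : Finite U := finite_of_le hUS
    exact ih _ (hn ▸ hlt) (hS.to_le hUS) hGs hEG hCG hsG Y hY rfl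
  by_cases hA : F.autGroup T ≤ E.autGroup T
  · exact (limit_pPower_iff hS hF hE.1.2.2.2.1 hE.1.1 (hasPPowerIndexIn hS hF hE hCE hA) X).1 hX
  have hTS : T ≤ S := hE.1.2.2.2.1.1
  haveI := finite_autGroup F hTS
  obtain ⟨hB, hq⟩ := id hsolv
  haveI := hB
  set B := (E.autGroup T).subgroupOf (F.autGroup T) with hBdef
  haveI : Nontrivial (↥(F.autGroup T) ⧸ B) := QuotientGroup.nontrivial_iff.2 fun h =>
    hA fun a ha => (h.ge (Subgroup.mem_top (⟨a, ha⟩ : F.autGroup T)) : _)
  obtain ⟨N, hN, hNtop, hcase⟩ := exists_top_step hq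
  haveI := hN
  set K := N.comap (QuotientGroup.mk' B) with hK
  haveI : K.Normal := hN.comap _
  have hKtop : K ≠ ⊤ := fun h => hNtop (Subgroup.comap_injective (QuotientGroup.mk'_surjective B)
    (h.trans (Subgroup.comap_top _).symm))
  have hBK : B ≤ K := fun b hb => by
    show QuotientGroup.mk' B b ∈ N
    rw [QuotientGroup.mk'_apply, (QuotientGroup.eq_one_iff b).2 hb]
    exact one_mem _
  have hidx : K.index = N.index :=
    Subgroup.index_comap_of_surjective N (QuotientGroup.mk'_surjective B)
  rcases hcase with ⟨m, hm⟩ | hm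
  · exact pPower_step hS hF hE hCE hsolv hrec hKtop hBK (hidx.trans hm) X hX
  · haveI : Nontrivial (↥(F.autGroup T) ⧸ K) := QuotientGroup.nontrivial_iff.2 hKtop
    refine primeTo_step hS hF hE hCE hsolv hrec (Δ := ↥(F.autGroup T) ⧸ K) ?_
      (QuotientGroup.mk' K) (QuotientGroup.mk'_surjective K)
      (fun a ha => (QuotientGroup.eq_one_iff a).2 (hBK ha)) X hX
    rw [← Subgroup.index_eq_card, hidx]
    exact hm

end Cfsg.Agent.H3.ResidualSolvable
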