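import Cfsg.Agent.H3.ResidualSolvable.Base
import Cfsg.Agent.H91.Theta.Main
import Cfsg.Agent.Cores.PSolvable
import Cfsg.Agent.S5110
import Cfsg.Agent.S5198

/-!
One step down along a `p`-solvable quotient of the automizer.
-/

set_option autoImplicit false
set_option linter.unusedSectionVars false
set_option linter.style.haveILetI false

namespace Cfsg.Agent.H3.ResidualSolvable

open Cfsg Cfsg.FusionSystem Cfsg.Agent.FusionSys Cfsg.Agent.H91.CentFocal
open Cfsg.FusionSystem (centralizerIn normalizerIn)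

universe u

variable {Ω : Type u} [Group Ω] {p : ℕ} {S T : Subgroup Ω} {F : FusionSystem S} {E : FusionSystem T}

/-- A nontrivial `p`-solvable group has a proper normal subgroup of `p`-power or prime to `p` index. -/
theorem exists_top_step {G : Type*} [Group G] [Nontrivial G] (h : IsPSolvable p G) :
    ∃ N : Subgroup G, N.Normal ∧ N ≠ ⊤ ∧ ((∃ m, N.index = p ^ m) ∨ N.index.Coprime p) := by
  obtain ⟨n, H, h0, hn, -, hnorm, hstep⟩ := h
  by_contra hno
  push Not at hno
  have key : ∀ j : ℕ, ∀ hj : j ≤ n, H ⟨n - j, by omega⟩ = ⊤ := by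
    intro j
    induction j with
    | zero => intro _; exact hn
    | succ j ih =>
      intro hj
      by_contra hne
      have hlt : n - (j + 1) < n := by omega
      set i : Fin n := ⟨n - (j + 1), hlt⟩
      have hsucc : H i.succ = ⊤ := by
        rw [← ih (by omega)]
        exact congrArg H (Fin.ext (show n - (j + 1) + 1 = n - j by omega))
      have h2 := hno (H i.castSucc) (hnorm _) hne
      rcases hstep i with ⟨m, hm⟩ | hm
      · rw [hsucc, Subgroup.relIndex_top_right] at hm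
        exact h2.1 m hm
      · rw [hsucc, Subgroup.relIndex_top_right] at hm
        exact h2.2 hm
  have := key n le_rfl
  rw [show (⟨n - n, by omega⟩ : Fin (n + 1)) = 0 from Fin.ext (Nat.sub_self n), h0] at this
  exact bot_ne_top this

/-- `Aut_F(T)/Aut_E(T)` is `p`-solvable. -/
def SolvableOver (F : FusionSystem S) (E : FusionSystem T) (p : ℕ) : Prop :=
  ∃ h : ((E.autGroup T).subgroupOf (F.autGroup T)).Normal,
    haveI := h
    IsPSolvable p (↥(F.autGroup T) ⧸ (E.autGroup T).subgroupOf (F.autGroup T))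

variable [Finite S] [Fact p.Prime]

theorem SolvableOver.sub (h : SolvableOver F E p) (hTS : T ≤ S) {U : Subgroup Ω} {G : FusionSystem U}
    (hle : G.autGroup T ≤ F.autGroup T) : SolvableOver G E p := by
  obtain ⟨hn, hsolv⟩ := h
  haveI := hn
  haveI := finite_autGroup F hTS
  haveI : Finite T := finite_of_le hTS
  set f := (QuotientGroup.mk' ((E.autGroup T).subgroupOf (F.autGroup T))).comp (Subgroup.inclusion hle)
  have hker : f.ker = (E.autGroup T).subgroupOf (G.autGroup T) := by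
    ext x
    rw [MonoidHom.mem_ker, MonoidHom.comp_apply, QuotientGroup.mk'_apply, QuotientGroup.eq_one_iff]
    rfl
  have hn' : ((E.autGroup T).subgroupOf (G.autGroup T)).Normal := hker ▸ f.normal_ker
  refine ⟨hn', ?_⟩
  haveI := hn'
  haveI : Finite f.range := Subtype.finite
  exact (Cores.isPSolvable_congr
    ((QuotientGroup.quotientKerEquivRange f).symm.trans (QuotientGroup.quotientMulEquivOfEq hker))).1
    (Cores.isPSolvable_subgroup hsolv _)

theorem autMap_map_mul (α : MulAut T) {x y : Ω} (hx : x ∈ T) (hy : y ∈ T) :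
    autMap α (x * y) = autMap α x * autMap α y := by
  rw [autMap_apply _ (T.mul_mem hx hy), autMap_apply _ hx, autMap_apply _ hy, ← Subgroup.coe_mul,
    ← map_mul]
  rfl

/-- Subsystems of index prime to `p` have the same residual limits. -/
theorem limit_primeTo_iff (hS : IsPGroup p S) (hF : F.IsSaturated p) {G : FusionSystem S}
    (hGs : G.IsSaturated p) (hGi : G.HasPrimeToPIndexIn F p) {V : Subgroup Ω} (X : FusionSystem V) :
    X.IsResidualLimitOf G p ↔ X.IsResidualLimitOf F p := by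
  obtain ⟨M, hM⟩ := exists_pPrime hS hF
  refine (limit_pPrime_iff hS hGs (G := M) ?_ X).symm.trans (limit_pPrime_iff hS hF hM X)
  have hMG : M.IsSubsystemOf G := hM.2.2 G hGs hGi
  refine ⟨hM.1, ⟨hMG, fun P hP => ?_⟩, fun D hD hDi => hM.2.2 D hD
    ⟨fun P φ hφ => hGi.1 P (hDi.1 P hφ), fun P hP => ?_⟩⟩
  · refine Subgroup.map_le_iff_le_comap.2 ((Subgroup.closure_le _).2 ?_)
    rintro g ⟨k, hk⟩
    refine hM.2.1.2 P hP ⟨⟨g, H90.RL.autGroup_mono hGi.1 hP hP g.2⟩,
      Subgroup.subset_closure ⟨k, ?_⟩, rfl⟩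
    rw [Subgroup.orderOf_mk, Subgroup.orderOf_coe]
    exact hk
  · refine Subgroup.map_le_iff_le_comap.2 ((Subgroup.closure_le _).2 ?_)
    rintro g ⟨k, hk⟩
    have hgG : (g : MulAut P) ∈ G.autGroup P :=
      hGi.2 P hP ⟨g, Subgroup.subset_closure ⟨k, hk⟩, rfl⟩
    refine hDi.2 P hP ⟨⟨g, hgG⟩, Subgroup.subset_closure ⟨k, ?_⟩, rfl⟩
    rw [Subgroup.orderOf_mk, Subgroup.orderOf_coe]
    exact hk

/-- The subsystem of a character of order prime to `p`. -/
theorem theta_step (hS : IsPGroup p S) (hF : F.IsSaturated p) (hE : E.IsNormalIn F p) {Δ : Type*}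
    [Group Δ] [Finite Δ] [Nontrivial Δ] (hΔ : (Nat.card Δ).Coprime p)
    (χ : F.autGroup T →* Δ) (hχ : Function.Surjective χ)
    (hker : ∀ a : F.autGroup T, (a : MulAut T) ∈ E.autGroup T → χ a = 1) :
    E.IsSubsystemOf (H91.Theta.F0 F E χ) ∧ (H91.Theta.F0 F E χ).IsNormalIn F p ∧
      (H91.Theta.F0 F E χ).HasPrimeToPIndexIn F p ∧
      (H91.Theta.F0 F E χ).autGroup T < F.autGroup T ∧ E.IsNormalIn (H91.Theta.F0 F E χ) p := by
  have hEi := hE.1.2.2
  have hT : F.StronglyClosed T := hEi.2.1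
  have hTS := hT.1
  haveI : Finite T := finite_of_le hTS
  set G := H91.Theta.F0 F E χ
  have hGs : G.IsSaturated p := H91.Theta.isSaturated hS hF hE.1.1 hEi hΔ hker hχ
    fun D ℋ a b c d e => S5110.result p hS D ℋ a b c d e
  have hGi : G.HasPrimeToPIndexIn F p :=
    H91.Theta.hasPrimeToPIndexIn hS hF hE.1.1 hEi hΔ hker hχ
  have hEG : E.IsSubsystemOf G := H91.Theta.sub_F0 hS hF hE.1.1 hEi hΔ hker hχ hE
  have hTT : H91.Theta.Hp F T T := by
    refine ⟨hTS, ?_⟩
    rw [inf_idem]
    have := (H91.Theta.hp_top hT).2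
    rwa [inf_eq_right.2 hTS] at this
  have hEn : E.IsNormalIn G p := by
    refine ⟨H89.Gen.weaklyNormal_sub hS hGs H91.Theta.F0_sub le_rfl hE.1 hEG, fun α hα => ?_⟩
    obtain ⟨β, hβ, hβα, hβc⟩ := hE.2 α hα
    have hXS : T ⊔ centralizerIn S T ≤ S := sup_le hTS centralizerIn_le
    refine ⟨β, mem_autGroup_of_isMap (H91.Theta.isMap_F0_of_val (hTT.mono le_sup_left hXS)
      ((mem_autGroup_iff hXS).1 hβ) ⟨1, map_one χ, autMap α,
        ((mem_autGroup_iff le_rfl).1 hα).mono inf_le_right, fun x hx => ?_⟩), hβα, hβc⟩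
    rw [Subgroup.coe_one, FusionSys.autMap_one (autMap_mem _ hx.2), autMap_apply _ hx.1,
      autMap_apply _ hx.2]
    exact hβα ⟨x, hx.2⟩
  have hAle : G.autGroup T ≤ F.autGroup T := H90.RL.autGroup_mono H91.Theta.F0_sub hTS hTS
  have hlt : G.autGroup T < F.autGroup T := by
    refine lt_of_le_of_ne hAle fun he => ?_
    obtain ⟨d, hd⟩ := exists_ne (1 : Δ)
    obtain ⟨a, rfl⟩ := hχ d
    have haG : (a : MulAut T) ∈ G.autGroup T := by rw [he]; exact a.2
    obtain ⟨b, hb, φ, hφ, hbe⟩ := H91.Theta.val_of_InF0 hS hF hE.1.1 hEi hΔ hker hTT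
      (H91.Theta.isMap_F0_iff.1 ((mem_autGroup_iff hTS).1 haG))
    have hφT : IsMap E T φ := hφ.mono (le_inf le_rfl le_rfl)
    obtain ⟨ψ, hψ, hψe⟩ := (isIso_of_mapsTo hφT fun x hx => hφT.mem_S hx).exists_aut
    have hψF : ψ ∈ F.autGroup T :=
      mem_autGroup_of_isMap (isMap_of_sub hEi.1 ((mem_autGroup_iff le_rfl).1 hψ))
    have hab : a = b * ⟨ψ, hψF⟩ := Subtype.ext (aut_ext fun x hx => by
      rw [Subgroup.coe_mul, autMap_mul _ _ hx, hψe x hx, hbe x ⟨hx, hx⟩])
    exact hd (by rw [hab, map_mul, hb, hker ⟨ψ, hψF⟩ hψ, mul_one])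
  refine ⟨hEG, H91.Theta.isNormalIn hS hF hE.1.1 hEi hΔ hker hχ hGs, hGi, hlt, hEn⟩

/-- A smaller pair. -/
def Smaller (p : ℕ) (F : FusionSystem S) (E : FusionSystem T) : Prop :=
  ∀ {U : Subgroup Ω} (G : FusionSystem U), U ≤ S →
    Nat.card U + Nat.card (G.autGroup T) < Nat.card S + Nat.card (F.autGroup T) →
    G.IsSaturated p → E.IsNormalIn G p → SmallCentralizer G E → SolvableOver G E p →
    ∀ {V : Subgroup Ω} (X : FusionSystem V), X.IsResidualLimitOf E p → X.IsResidualLimitOf G p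

variable (hS : IsPGroup p S) (hF : F.IsSaturated p) (hE : E.IsNormalIn F p)
  (hCE : SmallCentralizer F E) (hsolv : SolvableOver F E p) (hrec : Smaller p F E)
include hS hF hE hCE hsolv hrec

theorem primeTo_step {Δ : Type*} [Group Δ] [Finite Δ] [Nontrivial Δ] (hΔ : (Nat.card Δ).Coprime p)
    (χ : F.autGroup T →* Δ) (hχ : Function.Surjective χ)
    (hker : ∀ a : F.autGroup T, (a : MulAut T) ∈ E.autGroup T → χ a = 1)
    {V : Subgroup Ω} (X : FusionSystem V) (hX : X.IsResidualLimitOf E p) :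
    X.IsResidualLimitOf F p := by
  have hTS : T ≤ S := hE.1.2.2.2.1.1
  obtain ⟨-, hGn, hGi, hlt, hEn⟩ := theta_step hS hF hE hΔ χ hχ hker
  haveI := finite_autGroup F hTS
  exact (limit_primeTo_iff hS hF hGn.1.1 hGi X).1 (hrec _ le_rfl
    (Nat.add_lt_add_left (H89.card_lt_card_of_lt hlt) _) hGn.1.1 hEn
    (hCE.sub hGi.1 le_rfl) (hsolv.sub hTS hlt.le) X hX)

omit hCE hsolv hrec in
/-- A subgroup of `T C_S(T)` times the hyperfocal subgroup is proper when `Aut_F(T)` has a `p`-quotient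
killing `Aut_E(T)`. -/
theorem sup_hyperfocal_lt {W : Subgroup Ω} (hWS : W ≤ T ⊔ centralizerIn S T) {K : Subgroup (F.autGroup T)} [K.Normal] (hKne : K ≠ ⊤)
    (hBK : (E.autGroup T).subgroupOf (F.autGroup T) ≤ K) {m : ℕ} (hK : K.index = p ^ m) :
    W ⊔ F.hyperfocalSubgroup p < S := by
  have hT : F.StronglyClosed T := hE.1.2.2.2.1
  have hTS := hT.1
  haveI : Finite T := finite_of_le hTS
  haveI := finite_autGroup F hTS
  refine lt_of_le_of_ne (sup_le (hWS.trans (sup_le hTS centralizerIn_le)) (H90.RL.hyperfocal_le F))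
    fun he => hKne ?_
  have hR : pResidual p (F.autGroup T) ≤ K := by
    refine (Subgroup.closure_le _).2 fun g hg => ?_
    have hg' : Nat.Coprime (orderOf g) p := hg
    have h1 : orderOf (QuotientGroup.mk' K g) ∣ p ^ m := hK ▸ orderOf_dvd_natCard _
    have h2 : orderOf (QuotientGroup.mk' K g) ∣ orderOf g := orderOf_map_dvd _ g
    exact (QuotientGroup.eq_one_iff g).1 (orderOf_eq_one_iff.1
      (Nat.eq_one_of_dvd_coprimes (Nat.Coprime.pow_left m hg'.symm) h1 h2))
  have hnorm : ∀ {x : Ω}, x ∈ S → x ∈ normalizerIn S T := fun {x} hx =>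
    ⟨hx, mem_normalizer_of_maps fun y hy => conj_mem_closed hT hx hy⟩
  have hInn : ∀ α ∈ Inn T, α ∈ E.autGroup T := by
    rintro α ⟨t, rfl⟩
    refine mem_autGroup_of_isMap ((isMap_conj E (le_refl T) t.2).congr fun y hy => ?_)
    rw [autMap_apply _ hy]
    rfl
  have hmem : ∀ x ∈ S, ∀ hx : x ∈ normalizerIn S T,
      (⟨conjAut hx.2, conjAut_mem_autGroup F hTS hx⟩ : F.autGroup T) ∈ K := by
    intro x hxS
    rw [← he, Subgroup.sup_eq_closure] at hxS
    induction hxS using Subgroup.closure_induction with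
    | one =>
      intro hx
      have : (⟨conjAut hx.2, conjAut_mem_autGroup F hTS hx⟩ : F.autGroup T) = 1 :=
        Subtype.ext (aut_ext fun y hy => by
          rw [autMap_conjAut _ hy, conjMap_apply, Subgroup.coe_one, FusionSys.autMap_one hy]; group)
      rw [this]; exact one_mem _
    | mem x hx' =>
      intro hx
      rcases hx' with hxW | hxH
      · obtain ⟨t, ht, c, hc, hxe⟩ := H89.ResidualExtend.exists_decomp
          (fun c hc => (FusionSys.mem_centralizerIn.1 hc).2) (hWS hxW)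
        refine hBK (hInn _ ⟨⟨t, ht⟩, MulEquiv.ext fun y => Subtype.ext ?_⟩)
        show t * y * t⁻¹ = x * y * x⁻¹
        rw [hxe, mul_inv_rev, mul_assoc t c, ← (FusionSys.mem_centralizerIn.1 hc).2 y y.2]
        group
      · obtain ⟨α, hα, hαe⟩ := S5198.result p hS F hF T hT x hxH
        have hαeq : α = conjAut hx.2 := aut_ext fun y hy => by
          rw [autMap_conjAut _ hy, autMap_apply _ hy]; exact hαe ⟨y, hy⟩
        have hle : (pResidual p (F.autGroup T)).map (F.autGroup T).subtype ⊔ Inn T ≤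
            K.map (F.autGroup T).subtype := sup_le (Subgroup.map_mono hR) fun a ha =>
          ⟨⟨a, mem_autGroup_of_isMap (isMap_of_sub hE.1.2.2.1 ((mem_autGroup_iff le_rfl).1
            (hInn a ha)))⟩, hBK (hInn a ha), rfl⟩
        obtain ⟨k, hk, hke⟩ := hle hα
        rwa [show (⟨conjAut hx.2, conjAut_mem_autGroup F hTS hx⟩ : F.autGroup T) = k from
          Subtype.ext (hαeq.symm.trans hke.symm)]
    | mul a b ha hb iha ihb =>
      intro hx
      have haS : a ∈ S := by rw [← he, Subgroup.sup_eq_closure]; exact ha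
      have hbS : b ∈ S := by rw [← he, Subgroup.sup_eq_closure]; exact hb
      have := mul_mem (iha (hnorm haS)) (ihb (hnorm hbS))
      convert this using 1
      exact Subtype.ext (conjAut_mul (hnorm haS).2 (hnorm hbS).2)
    | inv a ha iha =>
      intro hx
      have haS : a ∈ S := by rw [← he, Subgroup.sup_eq_closure]; exact ha
      have := inv_mem (iha (hnorm haS))
      convert this using 1
      refine eq_inv_of_mul_eq_one_left (Subtype.ext (aut_ext fun y hy => ?_))
      rw [Subgroup.coe_mul, autMap_mul _ _ hy, Subgroup.coe_one, FusionSys.autMap_one hy]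
      show autMap (conjAut hx.2) (autMap (conjAut (hnorm haS).2) y) = y
      rw [autMap_conjAut _ hy, conjMap_apply, autMap_conjAut _ (conj_mem_closed hT haS hy), conjMap_apply]
      group
  have hTn : F.IsFullyNormalized T := by
    refine ⟨hTS, fun Q _ => ?_⟩
    haveI := finite_of_le (S := S) (P := normalizerIn S T) normalizerIn_le
    exact Subgroup.card_le_of_le fun x hx => hnorm hx.1
  obtain ⟨-, Sy, hSy⟩ := isFullyAutomized_of_isFullyNormalized hS hF hTn
  refine top_le_iff.1 ((Fusion.sylow_sup_pResidual Sy).ge.trans (sup_le ?_ hR))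
  intro a ha
  rw [hSy] at ha
  obtain ⟨x, hx, hxn, he'⟩ := mem_autInducedBy.1 ha
  rw [show a = (⟨conjAut hxn, conjAut_mem_autGroup F hTS ⟨hx, hxn⟩⟩ : F.autGroup T) from Subtype.ext he']
  exact hmem x hx ⟨hx, hxn⟩

omit hF hCE hsolv hrec in
/-- The extension condition in a subsystem of `p`-power index. -/
theorem pPower_extension {U : Subgroup Ω} (hUS : U ≤ S) (hTU : T ≤ U) {G : FusionSystem U}
    (hGi : G.HasPPowerIndexIn F p) {α : MulAut T} (hα : α ∈ E.autGroup T) :
    ∃ β ∈ G.autGroup (T ⊔ centralizerIn U T),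
      (∀ x : T, ((β (Subgroup.inclusion le_sup_left x) : ↥(T ⊔ centralizerIn U T)) : Ω) = ((α x : T) : Ω)) ∧
      ∀ c : ↥(T ⊔ centralizerIn U T), (c : Ω) ∈ centralizerIn U T →
        (c : Ω)⁻¹ * ((β c : ↥(T ⊔ centralizerIn U T)) : Ω) ∈ T ⊓ Subgroup.centralizer (T : Set Ω) := by
  have hTS : T ≤ S := hTU.trans hUS
  set Y := T ⊔ centralizerIn U T with hY
  set Z := T ⊓ Subgroup.centralizer (T : Set Ω) with hZ
  have hYU : Y ≤ U := sup_le hTU centralizerIn_le
  haveI : Finite T := finite_of_le hTS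
  haveI : Finite Y := finite_of_le (hYU.trans hUS)
  haveI := finite_autGroup E (le_refl T)
  let Ext : MulAut T → MulAut Y → Prop := fun a b => b ∈ G.autGroup Y ∧
    (∀ x ∈ T, autMap b x = autMap a x) ∧ ∀ c ∈ centralizerIn U T, c⁻¹ * autMap b c ∈ Z
  suffices h : ∃ b, Ext α b by
    obtain ⟨b, hb, hba, hbc⟩ := h
    refine ⟨b, hb, fun x => ?_, fun c hc => ?_⟩
    · have := hba x x.2
      rwa [autMap_apply _ (Subgroup.mem_sup_left x.2), autMap_apply _ x.2] at this
    · have := hbc c hc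
      rwa [autMap_apply _ c.2] at this
  have hZT : ∀ a : MulAut T, ∀ z ∈ Z, autMap a z ∈ Z := fun a z hz => by
    refine ⟨autMap_mem a hz.1, fun t ht => ?_⟩
    have e : t = autMap a (autMap a⁻¹ t) := (autMap_inv_apply a ht).symm
    have h1 := hz.2 _ (autMap_mem a⁻¹ ht)
    rw [e, ← autMap_map_mul _ (autMap_mem _ ht) hz.1, ← autMap_map_mul _ hz.1 (autMap_mem _ ht), h1]
  have hmul : ∀ {a a' : MulAut T} {b b' : MulAut Y}, Ext a b → Ext a' b' → Ext (a * a') (b * b') := by
    rintro a a' b b' ⟨hb, hbT, hbc⟩ ⟨hb', hbT', hbc'⟩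
    refine ⟨mul_mem hb hb', fun x hx => ?_, fun c hc => ?_⟩
    · rw [autMap_mul _ _ (Subgroup.mem_sup_left hx), hbT' x hx, hbT _ (autMap_mem _ hx), autMap_mul _ _ hx]
    · have hcY : c ∈ Y := Subgroup.mem_sup_right hc
      have hz := hbc' c hc
      have e : autMap b' c = c * (c⁻¹ * autMap b' c) := by group
      rw [autMap_mul _ _ hcY, e, autMap_map_mul _ hcY (Subgroup.mem_sup_left hz.1), hbT _ hz.1, ← mul_assoc]
      exact mul_mem (hbc c hc) (hZT a _ hz)
  have hone : Ext 1 1 := by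
    refine ⟨one_mem _, fun x hx => ?_, fun c hc => ?_⟩
    · rw [FusionSys.autMap_one (Subgroup.mem_sup_left hx), FusionSys.autMap_one hx]
    · rw [FusionSys.autMap_one (Subgroup.mem_sup_right hc), inv_mul_cancel]; exact one_mem _
  have hpow : ∀ {a : MulAut T} {b : MulAut Y}, Ext a b → ∀ k : ℕ, Ext (a ^ k) (b ^ k) := by
    intro a b h k
    induction k with
    | zero => rw [pow_zero, pow_zero]; exact hone
    | succ k ih => rw [pow_succ, pow_succ]; exact hmul ih h
  let H : Subgroup (MulAut T) :=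
    { carrier := {a | ∃ b, Ext a b}
      one_mem' := ⟨1, hone⟩
      mul_mem' := fun ⟨b, hb⟩ ⟨b', hb'⟩ => ⟨b * b', hmul hb hb'⟩
      inv_mem' := fun {a} ⟨b, hb⟩ => ⟨_, by
        haveI : Finite (MulAut T) := finite_mulAut_of_le (le_refl T)
        rw [show a⁻¹ = a ^ (orderOf a - 1) from inv_eq_of_mul_eq_one_right (by
          rw [← pow_succ', Nat.sub_add_cancel (orderOf_pos a), pow_orderOf_eq_one])]
        exact hpow hb _⟩ }
  suffices h : (H.subgroupOf (E.autGroup T)) = ⊤ by
    exact (h.ge (Subgroup.mem_top (⟨α, hα⟩ : E.autGroup T)) : _)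
  obtain ⟨-, Sy, hSy⟩ := isFullyAutomized_of_isFullyNormalized (hS.to_le hTS) hE.1.1
    (isFullyNormalized_top E)
  refine top_le_iff.1 ((Fusion.sylow_sup_pResidual Sy).ge.trans (sup_le ?_ ?_))
  · intro a ha
    rw [hSy] at ha
    obtain ⟨t, ht, htn, hte⟩ := mem_autInducedBy.1 ha
    obtain ⟨b, hb, hbe⟩ := (isIso_of_mapsTo (isMap_conj G hYU (hTU ht)) fun y hy =>
      Y.mul_mem (Y.mul_mem (Subgroup.mem_sup_left ht) hy)
        (Y.inv_mem (Subgroup.mem_sup_left ht))).exists_aut
    refine ⟨b, hb, fun x hx => ?_, fun c hc => ?_⟩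
    · rw [hbe x (Subgroup.mem_sup_left hx)]
      simp only [Subgroup.coe_subtype] at hte ⊢
      rw [hte, autMap_conjAut _ hx]
    · rw [hbe c (Subgroup.mem_sup_right hc), conjMap_apply,
        (FusionSys.mem_centralizerIn.1 hc).2 t ht]
      rw [show c⁻¹ * (c * t * t⁻¹) = 1 by group]
      exact one_mem _
  · refine (Subgroup.closure_le _).2 fun a ha => ?_
    have hcop : Nat.Coprime (orderOf a) p := ha
    obtain ⟨β, hβ, hβa, hβc⟩ := hE.2 a a.2
    have hXS : T ⊔ centralizerIn S T ≤ S := sup_le hTS centralizerIn_le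
    have hUT : centralizerIn U T ≤ centralizerIn S T := inf_le_inf_right _ hUS
    have hYX : Y ≤ T ⊔ centralizerIn S T := sup_le_sup_left hUT T
    haveI : Finite ↥(T ⊔ centralizerIn S T) := finite_of_le hXS
    have hβm : IsMap F (T ⊔ centralizerIn S T) (autMap β) := (mem_autGroup_iff hXS).1 hβ
    have hβc' : ∀ c ∈ centralizerIn U T, c⁻¹ * autMap β c ∈ Z := fun c hc => by
      have hcX : c ∈ T ⊔ centralizerIn S T := Subgroup.mem_sup_right (hUT hc)
      rw [autMap_apply _ hcX]
      exact hβc ⟨c, hcX⟩ (hUT hc)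
    have hβT : ∀ x ∈ T, autMap β x = autMap (a : MulAut T) x := fun x hx => by
      rw [autMap_apply _ (Subgroup.mem_sup_left hx), autMap_apply _ hx]
      exact hβa ⟨x, hx⟩
    have hmaps : ∀ y ∈ Y, autMap β y ∈ Y := fun y hy => (hβm.mono hYX).mapsTo_sup (A := T) (B := centralizerIn U T)
      (fun x hx => Subgroup.mem_sup_left (hβT x hx ▸ autMap_mem _ hx))
      (fun c hc => by
        rw [show autMap β c = c * (c⁻¹ * autMap β c) by group]
        exact Y.mul_mem (Subgroup.mem_sup_right hc) (Subgroup.mem_sup_left (hβc' c hc).1)) hy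
    obtain ⟨b, hb, hbe⟩ := (isIso_of_mapsTo (hβm.mono hYX) hmaps).exists_aut
    haveI := finite_autGroup F (hYU.trans hUS)
    set bb : F.autGroup Y := ⟨b, hb⟩ with hbb
    -- a power of order prime to `p`
    obtain ⟨e, m, hpm, hem⟩ := Nat.exists_eq_pow_mul_and_not_dvd (orderOf_pos bb).ne' p
      (Fact.out : p.Prime).ne_one
    obtain ⟨j, hj⟩ := exists_pow_eq_self_of_coprime
      (Nat.Coprime.pow_left e hcop.symm : (p ^ e).Coprime (orderOf a))
    have hbG : b ^ (p ^ e * j) ∈ G.autGroup Y := by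
      refine hGi.2.2 Y hYU ⟨bb ^ (p ^ e * j), Subgroup.pow_mem _ ?_ 1 |> (fun h => by simpa using h), rfl⟩
      refine Subgroup.subset_closure ?_
      show Nat.Coprime (orderOf (bb ^ (p ^ e * j))) p
      refine Nat.Coprime.coprime_dvd_left (orderOf_dvd_of_pow_eq_one ?_ :
        orderOf (bb ^ (p ^ e * j)) ∣ m) ?_
      · rw [← pow_mul, show p ^ e * j * m = orderOf bb * j by rw [hem]; ring, pow_mul,
          pow_orderOf_eq_one, one_pow]
      · exact ((Nat.Prime.coprime_iff_not_dvd (Fact.out : p.Prime)).2 hpm).symm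
    refine ⟨b ^ (p ^ e * j), hbG, ?_, ?_⟩ <;>
    · have hlift : ∀ k : ℕ, (∀ x ∈ T, autMap (b ^ k) x = autMap ((a : MulAut T) ^ k) x) ∧
          ∀ c ∈ centralizerIn U T, c⁻¹ * autMap (b ^ k) c ∈ Z := by
        intro k
        induction k with
        | zero =>
          refine ⟨fun x hx => ?_, fun c hc => ?_⟩
          · rw [pow_zero, pow_zero, FusionSys.autMap_one (Subgroup.mem_sup_left hx),
              FusionSys.autMap_one hx]
          · rw [pow_zero, FusionSys.autMap_one (Subgroup.mem_sup_right hc), inv_mul_cancel]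
            exact one_mem _
        | succ k ih =>
          refine ⟨fun x hx => ?_, fun c hc => ?_⟩
          · rw [pow_succ', pow_succ', autMap_mul _ _ (Subgroup.mem_sup_left hx), autMap_mul _ _ hx,
              ih.1 x hx, hbe _ (Subgroup.mem_sup_left (autMap_mem _ hx)), hβT _ (autMap_mem _ hx)]
          · have hcY : c ∈ Y := Subgroup.mem_sup_right hc
            have hz := ih.2 c hc
            have e : autMap (b ^ k) c = c * (c⁻¹ * autMap (b ^ k) c) := by group
            have hzY : c⁻¹ * autMap (b ^ k) c ∈ Y := Subgroup.mem_sup_left hz.1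
            rw [pow_succ', autMap_mul _ _ hcY, e, autMap_map_mul _ hcY hzY, hbe c hcY,
              hbe _ hzY, hβT _ hz.1, ← mul_assoc]
            exact mul_mem (hβc' c hc) (hZT _ _ hz)
      have hpa : ((a : MulAut T) ^ (p ^ e * j)) = (a : MulAut T) := by
        rw [pow_mul]; exact congrArg Subtype.val hj
      first
        | exact fun x hx => by rw [(hlift _).1 x hx]; exact congrArg (fun g => autMap g x) hpa
        | exact (hlift _).2

theorem pPower_step {K : Subgroup (F.autGroup T)} [K.Normal] (hKne : K ≠ ⊤)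
    (hBK : (E.autGroup T).subgroupOf (F.autGroup T) ≤ K) {m : ℕ} (hK : K.index = p ^ m)
    {V : Subgroup Ω} (X : FusionSystem V) (hX : X.IsResidualLimitOf E p) :
    X.IsResidualLimitOf F p := by
  have hT : F.StronglyClosed T := hE.1.2.2.2.1
  have hTS := hT.1
  set U := T ⊔ F.hyperfocalSubgroup p with hU
  have hlt : U < S := sup_hyperfocal_lt hS hF hE le_sup_left hKne hBK hK
  have hUS : U ≤ S := hlt.le
  have hTU : T ≤ U := le_sup_left
  haveI : Finite U := finite_of_le hUS
  haveI : Finite T := finite_of_le hTS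
  obtain ⟨G, hGs, hGi⟩ := exists_pPower hS hF hUS le_sup_right
  have hyp := S5124.result p hS F hF
  have hUn : ∀ g ∈ S, ∀ x ∈ U, g * x * g⁻¹ ∈ U := fun g hg x hx => by
    have hle : U ≤ U.comap (MulAut.conj g).toMonoidHom := sup_le
      (fun t ht => Subgroup.mem_sup_left (conj_mem_closed hT hg ht))
      (fun t ht => Subgroup.mem_sup_right (conj_mem_closed hyp hg ht))
    exact hle hx
  have hGn : G.IsNormalIn F p := Fusion.PPower.isNormalIn hS hF hUS hUn hGs hGi
  have hEG : E.IsSubsystemOf G := H90.PPC.main hS hTS hE.1.1 hE.1.2.2.1 hTU hGi.2.2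
  have hEn : E.IsNormalIn G p := ⟨H89.Gen.weaklyNormal_sub hS hGs hGi.1 hUS hE.1 hEG,
    fun α hα => pPower_extension hS hE hUS hTU hGi hα⟩
  have hAle : G.autGroup T ≤ F.autGroup T := H90.RL.autGroup_mono hGi.1 hTU hTS
  haveI := finite_autGroup F hTS
  have hXG := hrec G hUS (Nat.add_lt_add_of_lt_of_le (H89.card_lt_card_of_lt hlt)
    (Subgroup.card_le_of_le hAle)) hGs hEn (hCE.sub hGi.1 hUS) (hsolv.sub hTS hAle) X hX
  exact (limit_pPower_iff hS hF hGn.1.2.2.2.1 hGs hGi X).1 hXG

end Cfsg.Agent.H3.ResidualSolvable
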